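import Cfsg.Agent.Lib.MinusField.CharTwo
import Cfsg.Agent.Lib.PGOQuot.Minus
import Cfsg.Agent.Lib.Descent.POmegaField
import Cfsg.Agent.Lib.AutPOmega.Transfer
import Cfsg.Agent.Lib.RootCount.Orth

/-!
The proper similarities of a minus type form: the preimage of `Inndiag(PΩ⁻)`, in every characteristic.
-/

set_option autoImplicit false
set_option linter.unusedSectionVars false
set_option linter.style.haveILetI false

universe u

namespace CfsgLib.MinusField

open Matrix Cfsg QuadraticMap Module
open CfsgLib.Classical.Quad (NDPolar Orth)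
open CfsgLib.OrthCrit (minusForm parity)
open CfsgLib.PGOQuot (simG simAut scal scal_mulVec scal_mem_simG isoToSim)
open CfsgLib.PGOQuot.Minus (Idx Aniso ctx)
open CfsgLib.Descent (liftVec mulVec_liftVec)

/-! ### Rank and parity over a larger field -/

section Rank

variable {F : Type*} [Field F] {K : Type*} [Field K] {ι : Type} [Fintype ι] [DecidableEq ι]

/-- Independent columns stay independent over a larger field: a matrix with a left inverse. -/
theorem rank_map' (f : F →+* K) (A : Matrix ι ι F) :
    finrank K (LinearMap.range (Matrix.toLin' (A.map f))) =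
      finrank F (LinearMap.range (Matrix.toLin' A)) := by
  classical
  set U := LinearMap.range (Matrix.toLin' A) with hU
  set r := finrank F U
  let b := Module.finBasis F U
  let Bl : (Fin r → F) →ₗ[F] (ι → F) := U.subtype.comp b.equivFun.symm.toLinearMap
  obtain ⟨Ll, hL⟩ := Bl.exists_leftInverse_of_injective
    (LinearMap.ker_eq_bot.2 (U.injective_subtype.comp b.equivFun.symm.injective))
  have hBr : LinearMap.range Bl = U := by
    rw [LinearMap.range_comp, LinearEquiv.range, Submodule.map_top, Submodule.range_subtype]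
  choose g hg using fun i : Fin r =>
    LinearMap.mem_range.1 (hBr.le ⟨Pi.single i 1, rfl⟩ : Bl (Pi.single i 1) ∈ U)
  let Rl : (Fin r → F) →ₗ[F] (ι → F) := Fintype.linearCombination F g
  have hR : (Matrix.toLin' A).comp Rl = Bl := (Pi.basisFun F (Fin r)).ext fun i => by
    simp [Rl, Fintype.linearCombination_apply_single, ← hg, Matrix.toLin'_apply]
  set L := LinearMap.toMatrix' Ll
  set B := LinearMap.toMatrix' Bl
  set R := LinearMap.toMatrix' Rl
  have hLB : L * B = 1 := by rw [← LinearMap.toMatrix'_comp, hL, LinearMap.toMatrix'_id]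
  have hBLA : B * (L * A) = A := by
    apply Matrix.toLin'.injective
    refine LinearMap.ext fun x => ?_
    obtain ⟨c, hc⟩ : Matrix.toLin' A x ∈ LinearMap.range Bl := hBr.symm ▸ ⟨x, rfl⟩
    simp only [Matrix.toLin'_mul, LinearMap.comp_apply, B, L, Matrix.toLin'_toMatrix']
    rw [← hc, ← LinearMap.comp_apply Ll, hL, LinearMap.id_apply]
  have hCR : (L * A) * R = 1 := by
    have h : A * R = B := by
      apply Matrix.toLin'.injective
      simp only [Matrix.toLin'_mul, R, B, Matrix.toLin'_toMatrix', hR]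
    rw [Matrix.mul_assoc, h, hLB]
  have e : Matrix.toLin' (A.map f) = (Matrix.toLin' (B.map f)).comp (Matrix.toLin' ((L * A).map f)) := by
    rw [← Matrix.toLin'_mul, ← Matrix.map_mul, hBLA]
  have hsurj : Function.Surjective (Matrix.toLin' ((L * A).map f)) := fun y =>
    ⟨Matrix.toLin' (R.map f) y, by
      rw [← LinearMap.comp_apply, ← Matrix.toLin'_mul, ← Matrix.map_mul, hCR,
        Matrix.map_one _ f.map_zero f.map_one, Matrix.toLin'_one, LinearMap.id_apply]⟩
  have hinj : Function.Injective (Matrix.toLin' (B.map f)) := by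
    refine Function.LeftInverse.injective (g := Matrix.toLin' (L.map f)) fun y => ?_
    rw [← LinearMap.comp_apply, ← Matrix.toLin'_mul, ← Matrix.map_mul, hLB,
      Matrix.map_one _ f.map_zero f.map_one, Matrix.toLin'_one, LinearMap.id_apply]
  rw [e, LinearMap.range_comp, LinearMap.range_eq_top.2 hsurj, Submodule.map_top,
    LinearMap.finrank_range_of_inj hinj, Module.finrank_fin_fun]

variable {Q : QuadraticForm F (ι → F)} {QK : QuadraticForm K (ι → K)} (f : F →+* K)
  (hQ : ∀ v, QK (liftVec f v) = f (Q v))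

include hQ in
theorem map_mem_iso (o : ↥(isometryGroup F ⇑Q)) :
    Matrix.GeneralLinearGroup.map f (o : GL ι F) ∈ isometryGroup K ⇑QK := fun u _ => by
  have h := CfsgLib.Descent.similar_map f QK ⇑Q hQ (o : GL ι F) 1
    (fun v => by rw [Units.val_one, one_mul]; exact o.2 v v) u
  rwa [Units.val_one, map_one, one_mul] at h

/-- An isometry read over a larger field. -/
def mapIso (o : ↥(isometryGroup F ⇑Q)) : ↥(isometryGroup K ⇑QK) := ⟨_, map_mem_iso f hQ o⟩

theorem subOne_eq {L : Type*} [Field L] {R : QuadraticForm L (ι → L)} (w : ↥(isometryGroup L ⇑R)) :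
    CfsgLib.Orth.subOne (CfsgLib.OrthCrit.toOrth R w) =
      Matrix.toLin' (((w : GL ι L) : Matrix ι ι L) - 1) := LinearMap.ext fun x => by
  rw [CfsgLib.Orth.subOne_apply, CfsgLib.OrthCrit.toOrth_apply, Matrix.toLin'_apply, Matrix.sub_mulVec,
    Matrix.one_mulVec]
  rfl

theorem parity_mapIso (o : ↥(isometryGroup F ⇑Q)) : parity (mapIso f hQ o) = parity o := by
  simp only [parity, CfsgLib.Orth.moved]
  erw [subOne_eq, subOne_eq]
  rw [show (((mapIso f hQ o : ↥(isometryGroup K ⇑QK)) : GL ι K) : Matrix ι ι K) - 1 =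
      ((((o : GL ι F) : Matrix ι ι F)) - 1).map f from by
    rw [Matrix.map_sub _ (map_sub f), Matrix.map_one _ f.map_zero f.map_one]; rfl, rank_map']

end Rank

variable {m : ℕ} {F : Type u} [Field F] [Fintype F] {a b : F}

theorem card_idx (m : ℕ) : Fintype.card (Idx m) = 2 * (m + 1) := by simp; omega

theorem five_le (hm : 3 ≤ m) : 5 ≤ Fintype.card (Idx m) := by rw [card_idx]; omega

theorem ndMinus (hab : Aniso a b) : NDPolar (minusForm m F a b) :=
  CfsgLib.OrthCrit.ndPolar_minusForm m a b hab (CfsgLib.OrthCrit.a_ne_zero_of_anisotropic hab)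

theorem odd_or_two (F : Type u) [Field F] [Fintype F] : Odd (Fintype.card F) ∨ CharP F 2 := by
  by_cases h2 : (2 : F) = 0
  · exact Or.inr (CfsgLib.OrthCrit.charP_two_of h2)
  · exact Or.inl (by rw [← Nat.card_eq_fintype_card]; exact CfsgLib.Classical.Quad.two_ne_zero_iff_odd.1 h2)

theorem center_minus [CharP F 2] (hm : 3 ≤ m) (hab : Aniso a b) :
    Subgroup.center ↥(Omega F ⇑(minusForm m F a b)) = ⊥ :=
  center_Omega_eq_bot (CfsgLib.Classical.Quad.minusEquiv m F)
    (fun v => CfsgLib.Classical.Quad.minusEquiv_spec m a b v)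
    (CfsgLib.Classical.Quad.ndPolar_hypForm (CfsgLib.Classical.Quad.ndPolar_binForm hab) m)
    (CfsgLib.AutPOmega.frame (CfsgLib.Classical.Quad.binForm a b) hm)
    fun _ => CfsgLib.Classical.Quad.negOne_eq_one CharTwo.two_eq_zero

/-- The kernel of the action of the similarities consists of the scalars. -/
theorem ker_simAut (hm : 3 ≤ m) (hab : Aniso a b) (g : ↥(simG (minusForm m F a b))) (hg : simAut g = 1) :
    ∃ c : Fˣ, (g : GL (Idx m) F) = scal c := by
  rcases odd_or_two F with hodd | h2
  · exact CfsgLib.PGOQuot.exists_scal_of_simAut_eq_one (CfsgLib.PGOQuot.Minus.two_ne_zero' hodd) (ndMinus hab)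
      (five_le hm) hg
  · exact exists_scal_of_simAut_eq_one_two (ndMinus hab) (five_le hm) (center_minus hm hab) hg

/-- The inner-diagonal automorphisms, on the carrier of the bundled form. -/
abbrev innd (m : ℕ) (a b : F) : Subgroup (MulAut (POmega F ⇑(minusForm m F a b))) :=
  inndiagPOmegaMinus m F a b

/-- The proper similarities. -/
noncomputable def properSub (m : ℕ) (a b : F) : Subgroup ↥(simG (minusForm m F a b)) :=
  (innd m a b).comap (simAut (Q := minusForm m F a b))

theorem mem_properSub {g : ↥(simG (minusForm m F a b))} :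
    g ∈ properSub m a b ↔ simAut g ∈ innd m a b := Iff.rfl

theorem inndiag_eq_map (m : ℕ) (a b : F) :
    innd m a b = (properSub m a b).map (simAut (Q := minusForm m F a b)) := by
  refine (Subgroup.map_comap_eq_self ((Subgroup.closure_le _).2 ?_)).symm
  rintro β ⟨g, hg, -, hind⟩
  exact ⟨⟨g, hg⟩, ((CfsgLib.PGOQuot.induced_iff (Q := minusForm m F a b) ⟨g, hg⟩ β).1 hind).symm⟩

theorem scal_mem_proper (c : Fˣ) :
    (⟨scal c, scal_mem_simG c⟩ : ↥(simG (minusForm m F a b))) ∈ properSub m a b := by
  rw [mem_properSub, CfsgLib.Descent.simAut_scal]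
  exact one_mem _

theorem mem_proper_odd (hodd : Odd (Fintype.card F)) (hm : 3 ≤ m) (hab : Aniso a b)
    (g : ↥(simG (minusForm m F a b))) : g ∈ properSub m a b ↔ (ctx hodd hm hab).eps g = 1 := by
  rw [mem_properSub, innd, CfsgLib.PGOQuot.Minus.inndiag_eq hodd hm hab]
  refine ⟨?_, fun h => ⟨g, h, rfl⟩⟩
  rintro ⟨k, hk, hkg⟩
  obtain ⟨c, hc⟩ := ker_simAut hm hab (k⁻¹ * g)
    (by rw [map_mul, map_inv, inv_mul_eq_one]; exact hkg)
  have hg : g = k * CfsgLib.PGOQuot.Ctx.scalSim c := by
    rw [← inv_mul_eq_iff_eq_mul]; exact Subtype.ext hc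
  rw [hg, map_mul, MonoidHom.mem_ker.1 hk, CfsgLib.PGOQuot.Ctx.eps_scalSim, one_mul]

/-- Preservation of the classes in characteristic two. -/
theorem preserves_two [CharP F 2] (hm : 3 ≤ m) (hab : Aniso a b) {K : Type u} [Field K] [Algebra F K]
    (hK : finrank F K = 2) (c : Fˣ) (o : ↥(isometryGroup F ⇑(minusForm m F a b))) :
    PreservesSingularClasses (Cfsg.quadFormMinus m K (algebraMap F K a) (algebraMap F K b))
      (((scal c * (o : GL (Idx m) F) : GL (Idx m) F) : Matrix (Idx m) (Idx m) F).map (algebraMap F K)) ↔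
        parity o = 0 := by
  haveI : Module.Finite F K := Module.finite_of_finrank_eq_succ hK
  haveI : Finite K := Module.finite_of_finite F
  haveI := Fintype.ofFinite K
  have hcard : Fintype.card K = Fintype.card F ^ 2 := by rw [Module.card_eq_pow_finrank (K := F) (V := K), hK]
  obtain ⟨θ, hθ, -, -⟩ := CfsgLib.UnitaryEmb.exists_root_quadratic (K := K) hcard rfl a b
    fun t ht => one_ne_zero (hab (-t) 1 (by linear_combination ht)).2
  set φ := algebraMap F K with hφ
  set QK := minusForm m K (φ a) (φ b)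
  have h2 : (2 : K) = 0 := by rw [← map_ofNat φ, CharTwo.two_eq_zero, map_zero]
  have ha : φ a ≠ 0 :=
    (map_ne_zero φ).2 (CfsgLib.OrthCrit.a_ne_zero_of_anisotropic hab CharTwo.two_eq_zero)
  have hnd : NDPolar QK := by
    intro x hx
    have hl : x ∘ Sum.inl = 0 := CfsgLib.OrthCrit.ndPolar_plusForm m _ fun y => by
      have h := hx (Sum.elim y 0)
      simpa [QK, CfsgLib.OrthCrit.polar_minusForm] using h
    have h0 := hx (Pi.single (Sum.inr 0) 1)
    have h1 := hx (Pi.single (Sum.inr 1) 1)
    simp [QK, CfsgLib.OrthCrit.polar_minusForm, CfsgLib.OrthCrit.polar_plusForm, Pi.single_apply, h2, ha] at h0 h1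
    funext k
    rcases k with i | i
    · exact congrFun hl i
    · fin_cases i
      · exact h1
      · exact h0
  set U0 := LinearMap.range (CfsgLib.PGOQuot.Minus.splitMap m θ) with hU0
  have h0 : CfsgLib.OrthCrit.IsMaxSing QK U0 := by
    refine ⟨?_, ?_⟩
    · rintro _ ⟨p, rfl⟩
      simp [QK, CfsgLib.PGOQuot.Minus.splitMap, Cfsg.quadFormMinus]
      linear_combination p.2 ^ 2 * hθ
    · rw [hU0, LinearMap.finrank_range_of_inj, finrank_prod, finrank_self, finrank_fintype_fun_eq_card,
        finrank_fintype_fun_eq_card]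
      · simp; omega
      · intro p p' h
        refine Prod.ext (funext fun i => ?_) ?_
        · exact congrFun h (Sum.inl (Sum.inl i))
        · exact congrFun h (Sum.inr 1)
  have hQ : ∀ v, QK (liftVec φ v) = φ (minusForm m F a b v) := fun v =>
    CfsgLib.PGOQuot.Minus.minusForm_map a b v
  set o' : ↥(isometryGroup K ⇑QK) := mapIso φ hQ o with ho'
  have hgeq : ((scal c * (o : GL (Idx m) F) : GL (Idx m) F) : Matrix (Idx m) (Idx m) F).map φ =
      ((scal (Units.map φ.toMonoidHom c) * (o' : GL (Idx m) K) : GL (Idx m) K) : Matrix (Idx m) (Idx m) K) := by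
    rw [Units.val_mul, Units.val_mul, Matrix.map_mul]
    congr 1
    ext i j
    by_cases hij : i = j <;> simp [scal, hij]
  have hg : ∀ v, QK (((scal (Units.map φ.toMonoidHom c) * (o' : GL (Idx m) K) : GL (Idx m) K) :
      Matrix (Idx m) (Idx m) K) *ᵥ v) = (φ c * φ c) * QK v := fun v => by
    rw [Units.val_mul, ← Matrix.mulVec_mulVec, scal_mulVec, QuadraticMap.map_smul,
      show QK (((o' : GL (Idx m) K) : Matrix (Idx m) (Idx m) K) *ᵥ v) = QK v from o'.2 v v, smul_eq_mul]
    rfl
  rw [hgeq]
  refine (CfsgLib.PGOQuot.preserves_iff (Q := QK) hnd (card_idx m) hg h0).trans ?_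
  have hmap : U0.map (Matrix.mulVecLin ((scal (Units.map φ.toMonoidHom c) * (o' : GL (Idx m) K) :
      GL (Idx m) K) : Matrix (Idx m) (Idx m) K)) =
      U0.map (Matrix.mulVecLin ((o' : GL (Idx m) K) : Matrix (Idx m) (Idx m) K)) := by
    rw [show Matrix.mulVecLin ((scal (Units.map φ.toMonoidHom c) * (o' : GL (Idx m) K) : GL (Idx m) K) :
        Matrix (Idx m) (Idx m) K) = (φ c : K) •
          Matrix.mulVecLin ((o' : GL (Idx m) K) : Matrix (Idx m) (Idx m) K) from LinearMap.ext fun x => by
      rw [Matrix.mulVecLin_apply, Units.val_mul, ← Matrix.mulVec_mulVec, scal_mulVec]; rfl,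
      Submodule.map_smul _ _ _ ((map_ne_zero φ).2 c.ne_zero)]
  have hdim : finrank K U0 = m + 1 := by
    have h1 := h0.2
    have h2 : finrank K (Idx m → K) = 2 * (m + 1) := by rw [finrank_fintype_fun_eq_card, card_idx]
    exact Nat.eq_of_mul_eq_mul_left two_pos (h1.trans h2)
  rw [hmap, CfsgLib.OrthCrit.even_sub_finrank_inf_map hnd (regular_of_five_le (five_le hm)) h0.1 hdim
    (card_idx m) o', ho', parity_mapIso]

/-- In characteristic two the inner-diagonal automorphisms are inner. -/
theorem inndiag_eq_inn_two [CharP F 2] (hm : 3 ≤ m) (hab : Aniso a b) :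
    innd m a b = Cfsg.Inn (POmega F ⇑(minusForm m F a b)) := by
  have hQ0 := CfsgLib.OrthCrit.exists_Q_ne_zero (ndMinus (m := m) hab)
  have hreg := regular_of_five_le (F := F) (five_le hm)
  refine le_antisymm ((Subgroup.closure_le _).2 ?_) ?_
  · rintro β ⟨g, hg, ⟨K, i1, i2, hK, hp⟩, hind⟩
    obtain ⟨c, o, hco⟩ := exists_decomp_two (Q := minusForm m F a b) ⟨g, hg⟩
    have hgv : g = scal c * (o : GL (Idx m) F) := congrArg Subtype.val hco
    subst hgv
    have hpar := (preserves_two hm hab hK c o).1 hp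
    have hβ : β = simAut (Q := minusForm m F a b) ⟨_, hg⟩ :=
      (CfsgLib.PGOQuot.induced_iff (Q := minusForm m F a b) ⟨_, hg⟩ β).1 hind
    rw [hβ, hco, map_mul, CfsgLib.Descent.simAut_scal, one_mul]
    exact ⟨QuotientGroup.mk (⟨o, (CfsgLib.OrthCrit.mem_Omega_iff_char_two (ndMinus hab) hreg hQ0 o).2 hpar⟩ :
      ↥(Omega F ⇑(minusForm m F a b))), (CfsgLib.PGOQuot.simAut_omega _).symm⟩
  · rintro _ ⟨x, rfl⟩
    induction x using QuotientGroup.induction_on with
    | _ s =>
      refine Subgroup.subset_closure ⟨(s.1 : GL (Idx m) F), CfsgLib.PGOQuot.iso_le_sim s.1.2, ?_, ?_⟩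
      · obtain ⟨A, C', hirr⟩ : ∃ A C' : F, ∀ t : F, t ^ 2 - A * t + C' ≠ 0 :=
          ⟨a, b, fun t ht => one_ne_zero (hab (-t) 1 (by linear_combination ht)).2⟩
        let P : Polynomial F := Polynomial.X ^ 2 - Polynomial.C A * Polynomial.X + Polynomial.C C'
        have hdeg : P.natDegree = 2 := by simp only [P]; compute_degree!
        have hP : Irreducible P := by
          refine (Polynomial.irreducible_iff_roots_eq_zero_of_degree_le_three (by omega) (by omega)).2 ?_
          refine Multiset.eq_zero_of_forall_notMem fun t ht => hirr t ?_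
          simpa [P] using (Polynomial.mem_roots'.1 ht).2
        haveI : Fact (Irreducible P) := ⟨hP⟩
        have hK : finrank F (AdjoinRoot P) = 2 := by
          rw [(AdjoinRoot.powerBasis hP.ne_zero).finrank, AdjoinRoot.powerBasis_dim, hdeg]
        refine ⟨AdjoinRoot P, inferInstance, inferInstance, hK, ?_⟩
        have h := (preserves_two hm hab hK 1 s.1).2 (CfsgLib.OrthCrit.parity_of_mem_Omega (ndMinus hab) hreg s.2)
        rwa [map_one, one_mul] at h
      · exact (CfsgLib.PGOQuot.induced_iff (isoToSim s.1) _).2 (CfsgLib.PGOQuot.simAut_omega s).symm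

theorem mem_proper_two [CharP F 2] (hm : 3 ≤ m) (hab : Aniso a b) (c : Fˣ)
    (o : ↥(isometryGroup F ⇑(minusForm m F a b))) :
    (⟨scal c, scal_mem_simG c⟩ * isoToSim o : ↥(simG (minusForm m F a b))) ∈ properSub m a b ↔
      parity o = 0 := by
  have hQ0 := CfsgLib.OrthCrit.exists_Q_ne_zero (ndMinus (m := m) hab)
  have hreg := regular_of_five_le (F := F) (five_le hm)
  rw [Subgroup.mul_mem_cancel_left _ (scal_mem_proper c), mem_properSub, inndiag_eq_inn_two hm hab]
  constructor
  · rintro ⟨x, hx⟩
    induction x using QuotientGroup.induction_on with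
    | _ s =>
      have hx' : simAut (isoToSim s.1) = simAut (isoToSim o) := (CfsgLib.PGOQuot.simAut_omega s).trans hx
      obtain ⟨d, hd⟩ := ker_simAut hm hab (isoToSim (s.1⁻¹ * o))
        (by rw [map_mul, map_inv, map_mul, map_inv, hx', inv_mul_cancel])
      obtain ⟨v, hv⟩ := hQ0
      have hd1 : (d : F) = 1 := by
        have h1 : minusForm m F a b ((((s.1⁻¹ * o : ↥(isometryGroup F ⇑(minusForm m F a b))) : GL (Idx m) F) :
            Matrix (Idx m) (Idx m) F) *ᵥ v) = minusForm m F a b v := (s.1⁻¹ * o).2 v v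
        rw [show ((s.1⁻¹ * o : ↥(isometryGroup F ⇑(minusForm m F a b))) : GL (Idx m) F) = scal d from hd,
          scal_mulVec, QuadraticMap.map_smul, smul_eq_mul] at h1
        have h2 : (d : F) * d = 1 := mul_right_cancel₀ hv (h1.trans (one_mul _).symm)
        rcases mul_self_eq_one_iff.1 h2 with h | h
        · exact h
        · rwa [CharTwo.neg_eq] at h
      have he : s.1⁻¹ * o = 1 := Subtype.ext (hd.trans (by rw [show d = 1 from Units.ext (hd1.trans Units.val_one.symm), map_one]; rfl))
      rw [← inv_mul_eq_one.1 he]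
      exact CfsgLib.OrthCrit.parity_of_mem_Omega (ndMinus hab) hreg s.2
  · intro h
    exact ⟨QuotientGroup.mk (⟨o, (CfsgLib.OrthCrit.mem_Omega_iff_char_two (ndMinus hab) hreg hQ0 o).2 h⟩ :
      ↥(Omega F ⇑(minusForm m F a b))), (CfsgLib.PGOQuot.simAut_omega _).symm⟩

theorem inn_le_inndiag (hm : 3 ≤ m) (hab : Aniso a b) :
    Cfsg.Inn (POmega F ⇑(minusForm m F a b)) ≤ innd m a b := by
  rcases odd_or_two F with hodd | h2
  · rintro _ ⟨x, rfl⟩
    induction x using QuotientGroup.induction_on with
    | _ s =>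
      have he : isoToSim s.1 ∈ properSub m a b := by
        rw [mem_proper_odd hodd hm hab, CfsgLib.PGOQuot.Ctx.eps_isoToSim]
        exact ((CfsgLib.OrthSpinor.mem_Omega_iff (CfsgLib.PGOQuot.Minus.two_ne_zero' hodd)
          (CfsgLib.Orth.ndPolar_iff.mp (ndMinus hab)) (by rw [card_idx]; omega) one_ne_zero s.1).1 s.2).1
      rw [mem_properSub, CfsgLib.PGOQuot.simAut_omega] at he
      exact he
  · exact (inndiag_eq_inn_two hm hab).ge

/-- Two classes: proper and improper. -/
theorem proper_index (hm : 3 ≤ m) (hab : Aniso a b) {r : ↥(simG (minusForm m F a b))}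
    (hr : r ∉ properSub m a b) (g : ↥(simG (minusForm m F a b))) :
    g ∈ properSub m a b ∨ g * r ∈ properSub m a b := by
  rcases odd_or_two F with hodd | h2
  · simp only [mem_proper_odd hodd hm hab] at hr ⊢
    obtain ⟨S, -⟩ := CfsgLib.PGOQuot.Minus.exists_sim hodd hm hab
    rcases S.eps_sq g with h | h
    · exact Or.inl h
    · rcases S.eps_sq r with h' | h'
      · exact absurd h' hr
      · exact Or.inr (by rw [map_mul, h, h', neg_mul_neg, one_mul])
  · obtain ⟨c, o, rfl⟩ := exists_decomp_two g
    obtain ⟨d, p, rfl⟩ := exists_decomp_two r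
    rw [mem_proper_two hm hab] at hr ⊢
    have hne : ∀ x : ZMod 2, x ≠ 0 → x = 1 := by decide
    by_cases h : parity o = 0
    · exact Or.inl h
    · right
      have he : (⟨scal c, scal_mem_simG c⟩ * isoToSim o * (⟨scal d, scal_mem_simG d⟩ * isoToSim p) :
          ↥(simG (minusForm m F a b))) = ⟨scal (c * d), scal_mem_simG (c * d)⟩ * isoToSim (o * p) := by
        refine Subtype.ext ?_
        show scal c * (o : GL (Idx m) F) * (scal d * (p : GL (Idx m) F)) = scal (c * d) * ((o : GL (Idx m) F) * (p : GL (Idx m) F))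
        rw [map_mul scal, mul_assoc (scal c), ← mul_assoc (o : GL (Idx m) F),
          ← CfsgLib.PGOQuot.scal_comm d (o : GL (Idx m) F)]
        group
      rw [he, mem_proper_two hm hab, CfsgLib.OrthCrit.parity_mul (ndMinus hab)
        (regular_of_five_le (five_le hm)), hne _ h, hne _ hr]
      decide

/-- A reflection is improper. -/
theorem refl_not_proper (hm : 3 ≤ m) (hab : Aniso a b) {v : Idx m → F}
    (hv : minusForm m F a b v ≠ 0) :
    isoToSim (CfsgLib.OrthSpinor.reflection hv) ∉ properSub m a b := by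
  intro h
  rcases odd_or_two F with hodd | h2
  · rw [mem_proper_odd hodd hm hab, CfsgLib.PGOQuot.Ctx.eps_isoToSim, CfsgLib.OrthSpinor.detHom_reflection] at h
    have := congrArg Units.val h
    simp only [Units.val_neg, Units.val_one] at this
    exact CfsgLib.PGOQuot.Minus.two_ne_zero' hodd (by linear_combination -this)
  · have h' : (⟨scal 1, scal_mem_simG 1⟩ * isoToSim (CfsgLib.OrthSpinor.reflection hv) :
        ↥(simG (minusForm m F a b))) ∈ properSub m a b := mul_mem (scal_mem_proper 1) h
    rw [mem_proper_two hm hab, CfsgLib.OrthCrit.parity_reflection (ndMinus hab) hv] at h'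
    exact absurd h' (by decide)

/-- Properness is unchanged by reading a similarity over a larger field. -/
theorem proper_map (hm : 3 ≤ m) (hab : Aniso a b) {K : Type*} [Field K] [Fintype K] (f : F →+* K)
    {a' b' : K} (hab' : Aniso a' b') (ha : f a = a') (hb : f b = b')
    (g : ↥(simG (minusForm m F a b))) (g' : ↥(simG (minusForm m K a' b')))
    (hg : (g' : GL (Idx m) K) = Matrix.GeneralLinearGroup.map f (g : GL (Idx m) F)) :
    g' ∈ properSub m a' b' ↔ g ∈ properSub m a b := by
  have hQ : ∀ v, minusForm m K a' b' (liftVec f v) = f (minusForm m F a b v) := fun v => by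
    subst ha hb
    simp [liftVec, Cfsg.quadFormMinus, map_sum]
  rcases odd_or_two F with hodd | h2
  · have hoddK : Odd (Fintype.card K) := by
      rcases odd_or_two K with h | h
      · exact h
      · exact absurd (f.injective (a₁ := (2 : F)) (a₂ := 0) (by rw [map_ofNat, map_zero, CharTwo.two_eq_zero]))
          (CfsgLib.PGOQuot.Minus.two_ne_zero' hodd)
    rw [mem_proper_odd hoddK hm hab', mem_proper_odd hodd hm hab]
    have hμ : (ctx hoddK hm hab').mu g' = Units.map f.toMonoidHom ((ctx hodd hm hab).mu g) :=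
      (ctx hoddK hm hab').mu_eq fun v => by
        rw [hg]
        exact CfsgLib.Descent.similar_map f _ ⇑(minusForm m F a b) hQ _ _ ((ctx hodd hm hab).mu_spec g) v
    have he : (ctx hoddK hm hab').eps g' = Units.map f.toMonoidHom ((ctx hodd hm hab).eps g) := by
      rw [CfsgLib.PGOQuot.Ctx.eps_apply, CfsgLib.PGOQuot.Ctx.eps_apply, hμ, map_mul, map_inv, map_pow]
      congr 1
      rw [hg]
      exact Units.ext (RingHom.map_det f _).symm
    rw [he]
    exact map_eq_one_iff _ (Units.map_injective (f := f.toMonoidHom) f.injective)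
  · haveI : CharP K 2 := charP_of_injective_ringHom f.injective 2
    obtain ⟨c, o, rfl⟩ := exists_decomp_two g
    have hg' : g' = ⟨scal (Units.map f.toMonoidHom c), scal_mem_simG _⟩ * isoToSim (mapIso f hQ o) := by
      refine Subtype.ext (hg.trans ?_)
      show Matrix.GeneralLinearGroup.map f (scal c * (o : GL (Idx m) F)) = _
      rw [map_mul]
      congr 1
      refine Units.ext (Matrix.ext fun i j => ?_)
      by_cases hij : i = j <;> simp [scal, hij, Matrix.GeneralLinearGroup.map]
    rw [hg', mem_proper_two hm hab', mem_proper_two hm hab, parity_mapIso]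

end CfsgLib.MinusField
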