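import Cfsg.Agent.Lib.MinusField.Centralizer
import Cfsg.Agent.Lib.AutPSL.Split

/-!
The `Inndiag`-class of a field automorphism of odd order is a single class of inner automorphisms.
-/

set_option autoImplicit false
set_option linter.unusedSectionVars false
set_option linter.style.haveILetI false
set_option maxHeartbeats 800000

universe u

namespace CfsgLib.MinusField

open Matrix Cfsg QuadraticMap Module
open CfsgLib.AutPSL (fixedField mem_fixedField)
open CfsgLib.OrthCrit (minusForm)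
open CfsgLib.PGOQuot (simG simAut scal scal_mem_simG isoToSim outer)
open CfsgLib.PGOQuot.Minus (Idx Aniso ctx)
open CfsgLib.Descent (invAut fieldAut simMap liftVec mapGL)
open CfsgLib.OrthSpinor (reflection)

/-- A non-square of the fixed field of an automorphism of odd order stays a non-square. -/
theorem isSquare_descend {F : Type*} [Field F] {K : Type*} [Field K] (f : K →+* F)
    {σ : F ≃+* F} (hf : ∀ x, σ x = x ↔ ∃ c, f c = x) (hodd : Odd (orderOf σ)) {c : K}
    (h : IsSquare (f c)) : IsSquare c := by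
  obtain ⟨s, hs⟩ := h
  have hc : σ (f c) = f c := (hf _).2 ⟨c, rfl⟩
  have hcase : σ s = s ∨ σ s = -s := by
    refine mul_self_eq_mul_self_iff.1 ?_
    rw [← map_mul, ← hs, hc]
  have hfix : σ s = s := by
    rcases hcase with h | h
    · exact h
    obtain ⟨k, hk⟩ := hodd
    have h' : ∀ j : ℕ, (σ ^ (2 * j)) s = s := fun j => by
      induction j with
      | zero => rfl
      | succ j ih =>
        rw [show 2 * (j + 1) = 2 * j + 2 by ring, pow_add]
        show (σ ^ (2 * j)) ((σ ^ 2) s) = s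
        rw [show (σ ^ 2) s = σ (σ s) from rfl, h, map_neg, h, neg_neg, ih]
    have h3 : (σ ^ (2 * k + 1)) s = σ s := by
      rw [pow_succ']
      show σ ((σ ^ (2 * k)) s) = σ s
      rw [h']
    rw [← hk, pow_orderOf_eq_one] at h3
    exact h3.symm
  obtain ⟨t, ht⟩ := (hf s).1 hfix
  exact ⟨t, f.injective (by rw [map_mul, ht, hs])⟩

variable {m : ℕ} {F : Type u} [Field F] [Fintype F] {a b : F}

/-- The similarity data from the fixed field. -/
theorem exists_sim_fixed {K : Type*} [Field K] [Fintype K] (f : K →+* F) {a₀ b₀ : K}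
    (ha₀ : f a₀ = a) (hb₀ : f b₀ = b) (hodd : Odd (Fintype.card F)) (hm : 3 ≤ m) (hab : Aniso a b)
    (σ : ↥(invAut (minusForm m F a b))) (hf : ∀ x, (σ : F ≃+* F) x = x ↔ ∃ c, f c = x)
    (hr : Odd (orderOf (σ : F ≃+* F))) :
    ∃ S : CfsgLib.PGOQuot.Ctx.Sim (ctx hodd hm hab), simMap σ S.g = S.g := by
  have h2 : (2 : F) ≠ 0 := CfsgLib.PGOQuot.Minus.two_ne_zero' hodd
  have hoddK : Odd (Fintype.card K) := by
    rcases odd_or_two K with h | h
    · exact h
    · exact absurd (show (2 : F) = 0 by rw [← map_ofNat f 2, CharTwo.two_eq_zero, map_zero]) h2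
  have hab₀ := aniso_base f hab ha₀ hb₀
  obtain ⟨S₀, -⟩ := CfsgLib.PGOQuot.Minus.exists_sim hoddK hm hab₀
  set g := baseSim f ha₀ hb₀ S₀.g with hg
  have hmu : (ctx hodd hm hab).mu g = Units.map f.toMonoidHom ((ctx hoddK hm hab₀).mu S₀.g) :=
    (ctx hodd hm hab).mu_eq (c := Units.map f.toMonoidHom ((ctx hoddK hm hab₀).mu S₀.g)) fun v => by
      rw [hg, baseSim_coe]
      exact CfsgLib.Descent.similar_map f (minusForm m F a b) ⇑(minusForm m K a₀ b₀)
        (fun w => minus_liftVec f ha₀ hb₀ w) _ _ ((ctx hoddK hm hab₀).mu_spec S₀.g) v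
  have hsq : (ctx hodd hm hab).sq g = -1 := by
    rw [CfsgLib.PGOQuot.Ctx.sq, MonoidHom.comp_apply, CfsgLib.PGOQuot.sqSign_eq_neg_one_iff, hmu]
    intro h
    have h1 := S₀.hsq
    rw [CfsgLib.PGOQuot.Ctx.sq, MonoidHom.comp_apply, CfsgLib.PGOQuot.sqSign_eq_neg_one_iff] at h1
    exact h1 (isSquare_descend f hf hr h)
  have heps : (ctx hodd hm hab).eps g = 1 := by
    rw [← mem_proper_odd hodd hm hab, hg, proper_baseSim f ha₀ hb₀ hm hab, mem_proper_odd hoddK hm hab₀]
    exact S₀.heps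
  refine ⟨⟨g, hsq, heps, Units.map f.toMonoidHom S₀.lam,
    mapIso f (fun w => minus_liftVec f ha₀ hb₀ w) S₀.u, ?_⟩,
    simMap_baseSim f ha₀ hb₀ σ (fun c => (hf _).2 ⟨c, rfl⟩) _⟩
  rw [hg, ← map_mul, S₀.hu, map_mul]
  refine congrArg₂ (· * ·) (Subtype.ext (Units.ext (Matrix.ext fun i j => ?_))) (Subtype.ext rfl)
  rw [baseSim_coe]
  by_cases hij : i = j <;>
    simp [CfsgLib.PGOQuot.Ctx.scalSim, scal, hij, Matrix.GeneralLinearGroup.map]

/-- An element of `SO \ Ω` fixed by the field automorphism. -/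
theorem exists_z_fixed {K : Type*} [Field K] [Fintype K] (f : K →+* F)
    (hodd : Odd (Fintype.card F)) (hm : 3 ≤ m) (σ : ↥(invAut (minusForm m F a b)))
    (hf : ∀ x, (σ : F ≃+* F) x = x ↔ ∃ c, f c = x) (hr : Odd (orderOf (σ : F ≃+* F))) :
    ∃ o : ↥(isometryGroup F ⇑(minusForm m F a b)), CfsgLib.OrthSpinor.detHom o = 1 ∧ CfsgLib.PGOQuot.Ctx.th o = -1 ∧
      simMap σ (isoToSim o) = isoToSim o := by
  have h2 : (2 : F) ≠ 0 := CfsgLib.PGOQuot.Minus.two_ne_zero' hodd
  obtain ⟨ν, hν, hns⟩ := CfsgLib.OrthSpinor.exists_nonsquare' (F := K)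
    fun h => h2 (by rw [← map_ofNat f 2, h, map_zero])
  set v : Idx m → F := Pi.single (Sum.inr 0) 1 with hv
  set w : Idx m → F := Pi.single (Sum.inl (Sum.inl ⟨0, by omega⟩)) (f ν) +
    Pi.single (Sum.inl (Sum.inr ⟨0, by omega⟩)) 1 with hw
  have hQv : minusForm m F a b v = 1 := by simp [hv, Cfsg.quadFormMinus]
  have hQw : minusForm m F a b w = f ν := by simp [hw, Cfsg.quadFormMinus, Pi.single_apply]
  have hv0 : minusForm m F a b v ≠ 0 := by rw [hQv]; exact one_ne_zero
  have hw0 : minusForm m F a b w ≠ 0 := by rw [hQw]; exact (map_ne_zero f).2 hν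
  have hfv : ∀ i, (σ : F ≃+* F) (v i) = v i := fun i => by
    rw [hv, Pi.single_apply]; split_ifs <;> simp
  have hfw : ∀ i, (σ : F ≃+* F) (w i) = w i := fun i => by
    rw [hw, Pi.add_apply, Pi.single_apply, Pi.single_apply, map_add]
    congr 1 <;> split_ifs <;> simp [(hf _).2 ⟨ν, rfl⟩]
  refine ⟨reflection hv0 * reflection hw0, ?_, ?_, ?_⟩
  · rw [map_mul, CfsgLib.OrthSpinor.detHom_reflection, CfsgLib.OrthSpinor.detHom_reflection, neg_mul_neg,
      one_mul]
  · rw [map_mul, CfsgLib.OrthSpinor.theta_reflection_of_square h2 one_ne_zero hv0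
        (by rw [hQv, mul_one]; exact IsSquare.one),
      CfsgLib.OrthSpinor.theta_reflection_of_nonsquare h2 one_ne_zero hw0
        (by rw [hQw, one_mul]; exact fun h => hns (isSquare_descend f hf hr h)), mul_one]
  · rw [map_mul, map_mul, simMap_reflection σ hv0 hfv, simMap_reflection σ hw0 hfw]

/-- `Inndiag` is covered by the centralizer and the inner automorphisms. -/
theorem innd_le_sup {K : Type*} [Field K] [Fintype K] (f : K →+* F) {a₀ b₀ : K}
    (ha₀ : f a₀ = a) (hb₀ : f b₀ = b) (hm : 3 ≤ m) (hab : Aniso a b) (σ : ↥(invAut (minusForm m F a b)))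
    (hf : ∀ x, (σ : F ≃+* F) x = x ↔ ∃ c, f c = x) (hr : Odd (orderOf (σ : F ≃+* F))) :
    innd m a b ≤ (innd m a b ⊓ Subgroup.centralizer {fieldAut σ}) ⊔
      Cfsg.Inn (POmega F ⇑(minusForm m F a b)) := by
  rcases odd_or_two F with hodd | h2
  swap
  · refine le_trans (le_of_eq ?_) le_sup_right
    exact inndiag_eq_inn_two hm hab
  obtain ⟨S, hS⟩ := exists_sim_fixed f ha₀ hb₀ hodd hm hab σ hf hr
  obtain ⟨o, ho, hth, hoσ⟩ := exists_z_fixed f hodd hm σ hf hr
  let Ψ := QuotientGroup.mk' (Cfsg.Inn (POmega F ⇑(minusForm m F a b)))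
  let R := (innd m a b ⊓ Subgroup.centralizer {fieldAut σ}).map Ψ
  have hin : ∀ g : ↥(simG (minusForm m F a b)), (ctx hodd hm hab).eps g = 1 → simMap σ g = g →
      outer g ∈ R := fun g h1 h2 => by
    refine ⟨simAut g, Subgroup.mem_inf.2 ⟨(mem_proper_odd hodd hm hab g).2 h1,
      Subgroup.mem_centralizer_singleton_iff.2 ?_⟩, rfl⟩
    rw [CfsgLib.Descent.fieldAut_simAut, h2]
  have hb : S.b ∈ R := hin S.g S.heps hS
  have hz : (ctx hodd hm hab).z ∈ R := by
    rw [← (ctx hodd hm hab).outer_proper_of_th ho hth]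
    exact hin _ (by rw [CfsgLib.PGOQuot.Ctx.eps_isoToSim]; exact ho) hoσ
  intro y hy
  rw [inndiag_eq_map] at hy
  obtain ⟨g, hg, rfl⟩ := hy
  have hmem : Ψ (simAut g) ∈ R := S.eps_mem R hb hz ((mem_proper_odd hodd hm hab g).1 hg)
  have h3 : simAut g ∈ R.comap Ψ := hmem
  rwa [Subgroup.comap_map_eq, QuotientGroup.ker_mk'] at h3

section Reduce

theorem map_centralizer_singleton {X Y : Type*} [Group X] [Group Y] (e : X ≃* Y) (x : X) :
    (Subgroup.centralizer {x}).map e.toMonoidHom = Subgroup.centralizer {e x} := by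
  ext y
  obtain ⟨z, rfl⟩ := e.surjective y
  constructor
  · rintro ⟨w, hw, hwz⟩
    obtain rfl : w = z := e.injective hwz
    rw [Subgroup.mem_centralizer_singleton_iff, ← map_mul, ← map_mul, Subgroup.mem_centralizer_singleton_iff.1 hw]
  · intro h
    refine ⟨z, Subgroup.mem_centralizer_singleton_iff.2 (e.injective ?_), rfl⟩
    rw [map_mul, map_mul]
    exact Subgroup.mem_centralizer_singleton_iff.1 h

variable {p k : ℕ} [Fact p.Prime]

/-- The structure theorem for field automorphisms of prime order. -/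
theorem field_prime_order (hF : Fintype.card F = p ^ k) (hm : 3 ≤ m) (hab : Aniso a b)
    {x : MulAut (POmega F ⇑(minusForm m F a b))} (hx : IsFieldAutClassPOmegaMinus m (a := a) (b := b) x)
    {r : ℕ} (hr : r.Prime) (hxr : orderOf x = r) (F₀ : Type*) [Field F₀] [Fintype F₀]
    (hF₀ : Fintype.card F₀ = p ^ (k / r)) :
    Odd r ∧ r ∣ k ∧
      (∃ a₀ b₀ : F₀, Aniso a₀ b₀ ∧
        Nonempty (↥(innd m a b ⊓ Subgroup.centralizer {x}) ≃* ↥(innd m a₀ b₀))) ∧
      splitClassCount (innd m a b) (Cfsg.Inn (POmega F ⇑(minusForm m F a b))) x = 1 := by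
  obtain ⟨a', b', hab', σ, ψ, ha, hb, hσr, he, hinn⟩ := exists_coords hm hab hx hxr
  have hodd : Odd r := odd_of_prime hab' ha hb hr hσr
  obtain ⟨e⟩ := CfsgLib.AutPSL.exists_equiv_fixedField (σ : F ≃+* F) hF hσr hF₀
  set f : F₀ →+* F := (fixedField (σ : F ≃+* F)).subtype.comp e.toRingHom with hfdef
  have hf : ∀ y, (σ : F ≃+* F) y = y ↔ ∃ c, f c = y := fun y => by
    constructor
    · intro hy
      exact ⟨e.symm ⟨y, (mem_fixedField _).2 hy⟩, by simp [hfdef]⟩
    · rintro ⟨c, rfl⟩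
      exact (mem_fixedField _).1 (e c).2
  obtain ⟨a₀, ha₀⟩ := (hf a').1 ha
  obtain ⟨b₀, hb₀⟩ := (hf b').1 hb
  set H := innd m a b
  set E := MulAut.congr ψ
  have hinter : (H ⊓ Subgroup.centralizer {x}).map E.toMonoidHom =
      innd m a' b' ⊓ Subgroup.centralizer {fieldAut σ} := by
    rw [Subgroup.map_inf _ _ _ E.injective, hinn, map_centralizer_singleton, he]
  refine ⟨hodd, (CfsgLib.AutPSL.fixedField_card (σ : F ≃+* F) hF hσr).1, ⟨a₀, b₀,
    aniso_base f hab' ha₀ hb₀, ?_⟩, ?_⟩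
  · obtain ⟨ε⟩ := centralizer_equiv f ha₀ hb₀ hm hab' σ hf
    exact ⟨((E.subgroupMap (H ⊓ Subgroup.centralizer {x})).trans (MulEquiv.subgroupCongr hinter)).trans ε⟩
  · have h1 := innd_le_sup f ha₀ hb₀ hm hab' σ hf (hσr ▸ hodd)
    have hle : H ≤ (H ⊓ Subgroup.centralizer {x}) ⊔ Cfsg.Inn (POmega F ⇑(minusForm m F a b)) := by
      rw [← Subgroup.map_le_map_iff_of_injective (f := E.toMonoidHom) E.injective, Subgroup.map_sup, hinter,
        map_inn ψ, hinn]
      exact h1
    rw [CfsgLib.AutPSL.splitClassCount_eq_relIndex H _ (inn_le_inndiag hm hab)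
      (fun h _ k hk => (Cfsg.innNormal _).conj_mem k hk h), Subgroup.relIndex_eq_one]
    exact hle

end Reduce

end CfsgLib.MinusField
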