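import Cfsg.Agent.Lib.MinusField.Field

/-!
The centralizer in `Inndiag(PΩ⁻)` of a field automorphism fixing the coefficients.
-/

set_option autoImplicit false
set_option linter.unusedSectionVars false
set_option linter.style.haveILetI false
set_option maxHeartbeats 800000

universe u

namespace CfsgLib.MinusField

open Matrix Cfsg QuadraticMap Module
open CfsgLib.OrthCrit (minusForm)
open CfsgLib.PGOQuot (simG simAut scal scal_mem_simG)
open CfsgLib.PGOQuot.Minus (Idx Aniso)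
open CfsgLib.Descent (invAut fieldAut simMap liftVec mapGL)

/-- Two surjections with one kernel have isomorphic targets. -/
theorem nonempty_equiv_of_ker_eq {G A B : Type*} [Group G] [Group A] [Group B] (φ : G →* A) (ψ : G →* B)
    (hφ : Function.Surjective φ) (hψ : Function.Surjective ψ) (h : φ.ker = ψ.ker) : Nonempty (A ≃* B) :=
  ⟨(QuotientGroup.quotientKerEquivOfSurjective φ hφ).symm.trans
    ((QuotientGroup.quotientMulEquivOfEq h).trans (QuotientGroup.quotientKerEquivOfSurjective ψ hψ))⟩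

variable {m : ℕ} {F : Type u} [Field F] [Fintype F] {a b : F}
  {K : Type*} [Field K] [Fintype K] (f : K →+* F) {a₀ b₀ : K}

theorem aniso_base (hab : Aniso a b) (ha₀ : f a₀ = a) (hb₀ : f b₀ = b) : Aniso a₀ b₀ := fun z₁ z₂ hz => by
  have h0 : f z₁ ^ 2 + a * f z₁ * f z₂ + b * f z₂ ^ 2 = 0 := by
    rw [← ha₀, ← hb₀]; simpa using congrArg f hz
  obtain ⟨h1, h2⟩ := hab _ _ h0
  exact ⟨(map_eq_zero f).1 h1, (map_eq_zero f).1 h2⟩

theorem baseSim_mem (ha₀ : f a₀ = a) (hb₀ : f b₀ = b) (A : ↥(simG (minusForm m K a₀ b₀))) :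
    Matrix.GeneralLinearGroup.map f (A : GL (Idx m) K) ∈ simG (minusForm m F a b) := by
  obtain ⟨c, hc⟩ := A.2
  exact ⟨Units.map f.toMonoidHom c, fun v => CfsgLib.Descent.similar_map f (minusForm m F a b)
    ⇑(minusForm m K a₀ b₀) (fun w => minus_liftVec f ha₀ hb₀ w) _ c hc v⟩

/-- A similarity over the fixed field, read over the field. -/
noncomputable def baseSim (ha₀ : f a₀ = a) (hb₀ : f b₀ = b) :
    ↥(simG (minusForm m K a₀ b₀)) →* ↥(simG (minusForm m F a b)) :=
  ((Matrix.GeneralLinearGroup.map f).comp (simG (minusForm m K a₀ b₀)).subtype).codRestrict _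
    (baseSim_mem f ha₀ hb₀)

theorem baseSim_coe (ha₀ : f a₀ = a) (hb₀ : f b₀ = b) (A : ↥(simG (minusForm m K a₀ b₀))) :
    ((baseSim f ha₀ hb₀ A : ↥(simG (minusForm m F a b))) : GL (Idx m) F) =
      Matrix.GeneralLinearGroup.map f (A : GL (Idx m) K) := rfl

variable (ha₀ : f a₀ = a) (hb₀ : f b₀ = b)

theorem simMap_baseSim (σ : ↥(invAut (minusForm m F a b))) (hf : ∀ c, (σ : F ≃+* F) (f c) = f c)
    (A : ↥(simG (minusForm m K a₀ b₀))) : simMap σ (baseSim f ha₀ hb₀ A) = baseSim f ha₀ hb₀ A :=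
  Subtype.ext (Units.ext (Matrix.ext fun i j => hf _))

theorem proper_baseSim (hm : 3 ≤ m) (hab : Aniso a b) (A : ↥(simG (minusForm m K a₀ b₀))) :
    baseSim f ha₀ hb₀ A ∈ properSub m a b ↔ A ∈ properSub m a₀ b₀ :=
  proper_map hm (aniso_base f hab ha₀ hb₀) f hab ha₀ hb₀ A (baseSim f ha₀ hb₀ A) (baseSim_coe f ha₀ hb₀ A)

theorem simAut_baseSim_eq_one (hm : 3 ≤ m) (hab : Aniso a b) (A : ↥(simG (minusForm m K a₀ b₀))) :
    simAut (baseSim f ha₀ hb₀ A) = 1 ↔ simAut A = 1 := by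
  constructor
  · intro h
    obtain ⟨c, hc⟩ := ker_simAut hm hab _ h
    have hent : ∀ i j, f (((A : GL (Idx m) K) : Matrix (Idx m) (Idx m) K) i j) =
        if i = j then (c : F) else 0 := fun i j => by
      have h1 : (((baseSim f ha₀ hb₀ A : ↥(simG (minusForm m F a b))) : GL (Idx m) F) : Matrix (Idx m) (Idx m) F) i j =
          ((scal c : GL (Idx m) F) : Matrix (Idx m) (Idx m) F) i j := by rw [hc]
      simpa [baseSim_coe, scal, Matrix.diagonal_apply] using h1
    set d : K := ((A : GL (Idx m) K) : Matrix (Idx m) (Idx m) K) (Sum.inr 0) (Sum.inr 0)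
    have hd : f d = c := by simpa using hent (Sum.inr 0) (Sum.inr 0)
    have hd0 : d ≠ 0 := fun h0 => c.ne_zero (by rw [← hd, h0, map_zero])
    have hA : A = (⟨scal (Units.mk0 d hd0), scal_mem_simG _⟩ : ↥(simG (minusForm m K a₀ b₀))) := by
      refine Subtype.ext (Units.ext (Matrix.ext fun i j => f.injective ?_))
      rw [hent]
      by_cases hij : i = j <;> simp [scal, hij, hd]
    rw [hA]
    exact CfsgLib.Descent.simAut_scal _
  · intro h
    obtain ⟨c, hc⟩ := ker_simAut hm (aniso_base f hab ha₀ hb₀) _ h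
    have hA : baseSim f ha₀ hb₀ A =
        (⟨scal (Units.map f.toMonoidHom c), scal_mem_simG _⟩ : ↥(simG (minusForm m F a b))) := by
      refine Subtype.ext (Units.ext (Matrix.ext fun i j => ?_))
      rw [baseSim_coe, hc]
      by_cases hij : i = j <;> simp [scal, hij, Matrix.GeneralLinearGroup.map]
    rw [hA]
    exact CfsgLib.Descent.simAut_scal _

include ha₀ hb₀ in
/-- An element commuting with the field automorphism comes from the fixed field. -/
theorem exists_base (hm : 3 ≤ m) (hab : Aniso a b) (σ : ↥(invAut (minusForm m F a b)))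
    (hf : ∀ x, (σ : F ≃+* F) x = x ↔ ∃ c, f c = x) {g : ↥(simG (minusForm m F a b))}
    (hg : g ∈ properSub m a b) (hcomm : simAut g * fieldAut σ = fieldAut σ * simAut g) :
    ∃ A ∈ properSub m a₀ b₀, simAut (baseSim f ha₀ hb₀ A) = simAut g := by
  rw [CfsgLib.Descent.fieldAut_simAut] at hcomm
  obtain ⟨u, hu⟩ := ker_simAut hm hab (simMap σ g * g⁻¹)
    (by rw [map_mul, map_inv, ← mul_right_cancel hcomm, mul_inv_cancel])
  rw [Subgroup.coe_mul, Subgroup.coe_inv, CfsgLib.Descent.simMap_coe, mul_inv_eq_iff_eq_mul,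
    CfsgLib.Descent.scal_eq] at hu
  obtain ⟨e, A, hA⟩ := CfsgLib.Descent.exists_scalar_base f (fun x hx => (hf x).1 hx) hu
  obtain ⟨μ, hμ⟩ := g.2
  obtain ⟨v, hv⟩ := CfsgLib.OrthCrit.exists_Q_ne_zero (ndMinus (m := m) (aniso_base f hab ha₀ hb₀))
  obtain ⟨c₀, -, hc₀⟩ := CfsgLib.Descent.similar_of_map f (minusForm m F a b) ⇑(minusForm m K a₀ b₀)
    (fun w => minus_liftVec f ha₀ hb₀ w) ⟨v, hv⟩ A e μ (fun w => by rw [← hA]; exact hμ w)
  let A' : ↥(simG (minusForm m K a₀ b₀)) := ⟨A, c₀, hc₀⟩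
  have hgA : g = (⟨scal e, scal_mem_simG e⟩ : ↥(simG (minusForm m F a b))) * baseSim f ha₀ hb₀ A' :=
    Subtype.ext (hA.trans (by rw [← CfsgLib.Descent.scal_eq]; rfl))
  refine ⟨A', (proper_baseSim f ha₀ hb₀ hm hab A').1 ?_, ?_⟩
  · rwa [hgA, Subgroup.mul_mem_cancel_left _ (scal_mem_proper e)] at hg
  · rw [hgA, map_mul, CfsgLib.Descent.simAut_scal, one_mul]

include ha₀ hb₀ in
/-- **The centralizer of the field automorphism.** -/
theorem centralizer_equiv (hm : 3 ≤ m) (hab : Aniso a b) (σ : ↥(invAut (minusForm m F a b)))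
    (hf : ∀ x, (σ : F ≃+* F) x = x ↔ ∃ c, f c = x) :
    Nonempty (↥(innd m a b ⊓ Subgroup.centralizer {fieldAut σ}) ≃* ↥(innd m a₀ b₀)) := by
  have hmem : ∀ A : ↥(properSub (F := K) m a₀ b₀),
      simAut (baseSim f ha₀ hb₀ A.1) ∈ innd m a b ⊓ Subgroup.centralizer {fieldAut σ} := fun A => by
    refine Subgroup.mem_inf.2 ⟨(proper_baseSim f ha₀ hb₀ hm hab A.1).2 A.2,
      Subgroup.mem_centralizer_singleton_iff.2 ?_⟩
    rw [CfsgLib.Descent.fieldAut_simAut, simMap_baseSim f ha₀ hb₀ σ (fun c => (hf _).2 ⟨c, rfl⟩)]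
  refine nonempty_equiv_of_ker_eq
    (((simAut (Q := minusForm m F a b)).comp ((baseSim f ha₀ hb₀).comp (properSub m a₀ b₀).subtype)).codRestrict _
      hmem)
    (((simAut (Q := minusForm m K a₀ b₀)).comp (properSub m a₀ b₀).subtype).codRestrict (innd m a₀ b₀)
      fun A => A.2) ?_ ?_ ?_
  · rintro ⟨y, hy⟩
    obtain ⟨hy1, hy2⟩ := Subgroup.mem_inf.1 hy
    rw [inndiag_eq_map] at hy1
    obtain ⟨g, hg, rfl⟩ := hy1
    obtain ⟨A, hA, he⟩ := exists_base f ha₀ hb₀ hm hab σ hf hg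
      (Subgroup.mem_centralizer_singleton_iff.1 hy2)
    exact ⟨⟨A, hA⟩, Subtype.ext he⟩
  · rintro ⟨y, hy⟩
    rw [inndiag_eq_map] at hy
    obtain ⟨g, hg, rfl⟩ := hy
    exact ⟨⟨g, hg⟩, Subtype.ext rfl⟩
  · ext A
    rw [MonoidHom.mem_ker, MonoidHom.mem_ker]
    have key := simAut_baseSim_eq_one f ha₀ hb₀ hm hab A.1
    constructor
    · intro h
      apply Subtype.ext
      exact key.1 (congrArg Subtype.val h)
    · intro h
      apply Subtype.ext
      exact key.2 (congrArg Subtype.val h)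

end CfsgLib.MinusField
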