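import Cfsg.Agent.Lib.OrthCrit.Basic
import Cfsg.Agent.Lib.PGOQuot.Conj
import Cfsg.Agent.Lib.Classical.Quad.Std

/-!
Similarities of a quadratic form in characteristic two: scalars times isometries; the kernel of the action on
`PΩ(Q)` consists of the scalars.
-/

set_option autoImplicit false
set_option linter.unusedSectionVars false

namespace CfsgLib.MinusField

open Matrix Cfsg QuadraticMap Module
open CfsgLib.Classical.Quad (NDPolar Orth Frame)
open CfsgLib.OrthSpinor (act act_mul act_add reflection conj_reflection act_reflection act_reflection_self ext_act Q_act)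
open CfsgLib.PGOQuot (simG simAut conjOmega scal scal_mulVec scal_mem_simG isoToSim scal_comm)

variable {F : Type*} [Field F] {ι : Type} [Fintype ι] [DecidableEq ι] {Q : QuadraticForm F (ι → F)}

theorem regular_of_five_le (h5 : 5 ≤ Fintype.card ι) : CfsgLib.OrthCrit.Regular F ι := Or.inr (by omega)

/-- `Ω` has trivial centre if the model has. -/
theorem center_Omega_eq_bot {V : Type*} [AddCommGroup V] [Module F V] [FiniteDimensional F V]
    {R : QuadraticForm F V} (e : (ι → F) ≃ₗ[F] V) (he : ∀ v, R (e v) = Q v) (hnd : NDPolar R) (P : Frame R)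
    (h : CfsgLib.Classical.Quad.negOne R ∈ CfsgLib.Classical.Quad.siegelGroup R →
      CfsgLib.Classical.Quad.negOne R = 1) :
    Subgroup.center ↥(Omega F ⇑Q) = ⊥ := by
  let ε : ↥(Omega F ⇑Q) ≃* ↥(CfsgLib.Classical.Quad.siegelGroup R) :=
    (CfsgLib.Classical.Quad.commutatorEquiv (CfsgLib.Classical.Quad.isometryEquivModel e he)).trans
      (MulEquiv.subgroupCongr (CfsgLib.Classical.Quad.commutator_orth_eq hnd P))
  apply Subgroup.map_injective (f := ε.toMonoidHom) ε.injective
  have h1 := CfsgLib.Classical.Quad.map_center_mulEquiv ε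
  rw [Subgroup.map_bot]
  exact h1.trans (Subgroup.card_eq_one.1 (CfsgLib.Classical.Quad.card_center_eq_one hnd P h))

variable [Fintype F] [CharP F 2]

/-- In characteristic two a similarity is a scalar times an isometry. -/
theorem exists_decomp_two (g : ↥(simG Q)) :
    ∃ (c : Fˣ) (o : ↥(isometryGroup F ⇑Q)),
      g = ⟨scal c, scal_mem_simG c⟩ * isoToSim o := by
  obtain ⟨μ, hμ⟩ := g.2
  obtain ⟨s, hs⟩ := FiniteField.isSquare_of_char_two (ringChar.eq F 2) (μ : F)
  have hs0 : s ≠ 0 := fun h => μ.ne_zero (by rw [hs, h, mul_zero])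
  refine ⟨Units.mk0 s hs0, ⟨(scal (Units.mk0 s hs0))⁻¹ * (g : GL ι F), fun v _ => ?_⟩, Subtype.ext ?_⟩
  · show Q ((((scal (Units.mk0 s hs0))⁻¹ * (g : GL ι F) : GL ι F) : Matrix ι ι F) *ᵥ v) = Q v
    rw [← map_inv, Units.val_mul, ← Matrix.mulVec_mulVec, scal_mulVec, QuadraticMap.map_smul, hμ,
      smul_eq_mul, Units.val_inv_eq_inv_val, Units.val_mk0, hs]
    field_simp
  · show (g : GL ι F) = scal (Units.mk0 s hs0) * ((scal (Units.mk0 s hs0))⁻¹ * (g : GL ι F))
    rw [mul_inv_cancel_left]

/-- An isometry centralising `Ω` is trivial. -/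
theorem eq_one_of_centralize (hnd : NDPolar Q) (h5 : 5 ≤ Fintype.card ι)
    (hz : Subgroup.center ↥(Omega F ⇑Q) = ⊥) {k : ↥(isometryGroup F ⇑Q)}
    (hk : ∀ s ∈ Omega F ⇑Q, k * s = s * k) : k = 1 := by
  haveI : Nonempty ι := Fintype.card_pos_iff.1 (by omega)
  have hQ := CfsgLib.OrthCrit.exists_Q_ne_zero hnd
  have hreg := regular_of_five_le (F := F) h5
  set C := Subgroup.centralizer ((Omega F ⇑Q : Subgroup ↥(isometryGroup F ⇑Q)) : Set ↥(isometryGroup F ⇑Q))
  have hC : ∀ x, x ∈ C → x ∈ Omega F ⇑Q → x = 1 := fun x hx hxΩ => by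
    have h : (⟨x, hxΩ⟩ : ↥(Omega F ⇑Q)) ∈ Subgroup.center ↥(Omega F ⇑Q) :=
      Subgroup.mem_center_iff.2 fun y => Subtype.ext (hx _ y.2)
    rw [hz, Subgroup.mem_bot] at h
    exact congrArg Subtype.val h
  have hkC : k ∈ C := fun s hs => (hk s hs).symm
  by_contra hk1
  -- the centraliser has order two, so it is central
  have hidx := CfsgLib.Orth.index_Omega_char_two Q hnd hreg hQ
  have hcentral : ∀ g : ↥(isometryGroup F ⇑Q), g * k * g⁻¹ = k := by
    intro g
    haveI : (Omega F ⇑Q).Normal := Subgroup.commutator_normal _ _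
    have hmem : g * k * g⁻¹ ∈ C := fun s hs => by
      have h := hk (g⁻¹ * s * g) (by
        simpa using ‹(Omega F ⇑Q).Normal›.conj_mem s hs g⁻¹)
      calc s * (g * k * g⁻¹) = g * ((g⁻¹ * s * g) * k) * g⁻¹ := by group
        _ = g * (k * (g⁻¹ * s * g)) * g⁻¹ := by rw [h]
        _ = g * k * g⁻¹ * s := by group
    have hn : ∀ x, x ∈ C → x ≠ 1 → x ∉ Omega F ⇑Q := fun x hx h1 hxΩ => h1 (hC x hx hxΩ)
    by_contra hne
    have hk' : g * k * g⁻¹ ≠ 1 := fun h => hk1 (conj_eq_one_iff.1 h)
    have h2 : (g * k * g⁻¹) * k⁻¹ ∈ Omega F ⇑Q := by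
      rw [Subgroup.mul_mem_iff_of_index_two hidx, inv_mem_iff]
      exact iff_of_false (hn _ hmem hk') (hn _ hkC hk1)
    exact hne (mul_inv_eq_one.1 (hC _ (mul_mem hmem (inv_mem hkC)) h2))
  -- so it fixes every anisotropic vector
  have hfix : ∀ v : ι → F, Q v ≠ 0 → act Q k v = v := by
    intro v hv
    have hkv : Q (act Q k v) ≠ 0 := by rwa [Q_act]
    have h1 : k * reflection hv * k⁻¹ = reflection hv := by
      have h := hcentral (reflection hv)
      rw [mul_inv_eq_iff_eq_mul] at h ⊢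
      exact h.symm
    rw [conj_reflection k hv] at h1
    have h2 := congrArg (fun x : ↥(isometryGroup F ⇑Q) => act Q x (act Q k v)) h1
    simp only [act_reflection_self, act_reflection] at h2
    set t := (Q v)⁻¹ * polar (⇑Q) v (act Q k v)
    have h3 : t • v = act Q k v + act Q k v := by
      linear_combination (norm := module) h2
    have h4 : t • v = 0 := by rw [h3, ← two_smul F (act Q k v), CharTwo.two_eq_zero, zero_smul]
    have hpol : polar (⇑Q) v (act Q k v) = 0 := by
      rcases smul_eq_zero.1 h4 with h | h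
      · simpa [t, hv] using h
      · simp [h] at hv
    by_contra hne
    -- two reflections with the same map have proportional vectors
    obtain ⟨y, hy⟩ : ∃ y, polar (⇑Q) v y ≠ 0 := by
      by_contra! hy
      exact hv (by rw [hnd v hy, QuadraticMap.map_zero])
    have h5' := congrArg (fun x : ↥(isometryGroup F ⇑Q) => act Q x y) h1
    simp only [act_reflection, sub_right_inj] at h5'
    have h6 : v = (((Q v)⁻¹ * polar (⇑Q) v y)⁻¹ *
        ((Q (act Q k v))⁻¹ * polar (⇑Q) (act Q k v) y)) • act Q k v := by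
      rw [mul_smul, h5', smul_smul, inv_mul_cancel₀ (mul_ne_zero (inv_ne_zero hv) hy), one_smul]
    set s := ((Q v)⁻¹ * polar (⇑Q) v y)⁻¹ * ((Q (act Q k v))⁻¹ * polar (⇑Q) (act Q k v) y)
    have h7 : s * s = 1 := by
      have := congrArg (⇑Q) h6
      rw [QuadraticMap.map_smul, Q_act, smul_eq_mul] at this
      exact mul_right_cancel₀ hv (this.symm.trans (one_mul _).symm)
    rcases mul_self_eq_one_iff.1 h7 with h8 | h8
    · exact hne (by rw [h8, one_smul] at h6; exact h6.symm)
    · exact hne (by rw [h8, CharTwo.neg_eq, one_smul] at h6; exact h6.symm)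
  refine hk1 (ext_act Q fun u => ?_)
  rw [CfsgLib.OrthSpinor.act_one]
  by_cases hu : Q u = 0
  swap
  · exact hfix u hu
  by_cases hu0 : u = 0
  · subst hu0; simp [act]
  obtain ⟨y, hy0, hy⟩ : ∃ y, Q y ≠ 0 ∧ polar (⇑Q) u y = 0 := by
    obtain ⟨z, hz, huz⟩ := CfsgLib.OrthCrit.exists_partner hnd hu0 hu
    by_contra! hcon
    have hW : ∀ y, polar (⇑Q) u y = 0 → Q y = 0 := fun y h => by
      by_contra hq; exact hcon y hq h
    have hnd' : ∀ y, polar (⇑Q) u y = 0 → polar (⇑Q) z y = 0 → y = 0 := fun y h1 h2 => hnd y fun x => by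
      have hx : x = (x - polar (⇑Q) u x • z) + polar (⇑Q) u x • z := by module
      have h3 : polar (⇑Q) u (x - polar (⇑Q) u x • z) = 0 := by
        rw [sub_eq_add_neg, ← neg_smul, QuadraticMap.polar_add_right, QuadraticMap.polar_smul_right, huz]
        simp
      rw [hx, QuadraticMap.polar_add_right, QuadraticMap.polar_smul_right,
        QuadraticMap.polar_comm (⇑Q) y z, h2, smul_zero, add_zero, polar,
        hW _ (by rw [QuadraticMap.polar_add_right, h1, h3, add_zero]), hW _ h1, hW _ h3]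
      simp
    let L := ((polarBilin Q) u).prod ((polarBilin Q) z)
    have hL : Function.Injective L := by
      rw [injective_iff_map_eq_zero]
      intro y hy
      exact hnd' y (congrArg Prod.fst hy) (congrArg Prod.snd hy)
    have := LinearMap.finrank_le_finrank_of_injective hL
    rw [finrank_prod, finrank_self, finrank_fintype_fun_eq_card] at this
    omega
  have hsum : Q (u + y) ≠ 0 := by
    rw [QuadraticMap.map_add (⇑Q), hu, hy, zero_add, add_zero]; exact hy0
  have h := hfix _ hsum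
  rw [act_add, hfix y hy0] at h
  exact add_right_cancel h

/-- In characteristic two the kernel of the action on `PΩ(Q)` is the scalars. -/
theorem exists_scal_of_simAut_eq_one_two (hnd : NDPolar Q) (h5 : 5 ≤ Fintype.card ι)
    (hz : Subgroup.center ↥(Omega F ⇑Q) = ⊥) {g : ↥(simG Q)} (hg : simAut g = 1) :
    ∃ c : Fˣ, (g : GL ι F) = scal c := by
  obtain ⟨c, o, rfl⟩ := exists_decomp_two g
  refine ⟨c, ?_⟩
  have ho : o = 1 := by
    refine eq_one_of_centralize hnd h5 hz fun s hs => ?_
    have h := congrArg (fun β : MulAut (POmega F ⇑Q) => β (QuotientGroup.mk (⟨s, hs⟩ : ↥(Omega F ⇑Q)))) hg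
    simp only [CfsgLib.PGOQuot.simAut_mk, MulAut.one_apply] at h
    have h1 := QuotientGroup.eq.1 h
    rw [hz, Subgroup.mem_bot, inv_mul_eq_one] at h1
    have h2 : ((conjOmega (⟨scal c, scal_mem_simG c⟩ * isoToSim o) ⟨s, hs⟩ : ↥(Omega F ⇑Q)).1 : GL ι F) =
        (s : GL ι F) := congrArg (fun x : ↥(Omega F ⇑Q) => ((x.1 : ↥(isometryGroup F ⇑Q)) : GL ι F)) h1
    rw [CfsgLib.PGOQuot.conjOmega_coe] at h2
    apply Subtype.ext
    show (o : GL ι F) * (s : GL ι F) = (s : GL ι F) * (o : GL ι F)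
    have h3 : scal c * ((o : GL ι F) * (s : GL ι F)) = scal c * ((s : GL ι F) * (o : GL ι F)) := by
      rw [← mul_assoc, ← mul_assoc _ (s : GL ι F), scal_comm c (s : GL ι F), mul_assoc (s : GL ι F)]
      exact mul_inv_eq_iff_eq_mul.1 h2
    exact mul_left_cancel h3
  subst ho
  show scal c * (1 : GL ι F) = scal c
  rw [mul_one]

end CfsgLib.MinusField
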