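import Cfsg.Agent.Lib.MinusField.Transport
import Cfsg.Agent.Lib.FieldAutPlus.Kernel

/-!
Field automorphisms of prime order of `PΩ⁻`, in the coordinates where they fix the coefficients.
-/

set_option autoImplicit false
set_option linter.unusedSectionVars false
set_option linter.style.haveILetI false
set_option maxHeartbeats 800000

universe u

namespace CfsgLib.MinusField

open Matrix Cfsg QuadraticMap Module
open CfsgLib.AutPSL (fixedField mem_fixedField)
open CfsgLib.Classical.Quad (NDPolar)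
open CfsgLib.OrthCrit (minusForm)
open CfsgLib.PGOQuot (simG simAut scal isoToSim)
open CfsgLib.PGOQuot.Minus (Idx Aniso)
open CfsgLib.Descent (invAut fieldAut simMap liftVec mapGL)
open CfsgLib.OrthSpinor (reflection)

section General

variable {F : Type*} [Field F] {ι : Type} [Fintype ι] [DecidableEq ι] {Q : QuadraticForm F (ι → F)}

/-- A reflection in a fixed vector is fixed. -/
theorem simMap_reflection (σ : ↥(invAut Q)) {v : ι → F} (hv : Q v ≠ 0)
    (hfix : ∀ i, (σ : F ≃+* F) (v i) = v i) :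
    simMap σ (isoToSim (reflection hv)) = isoToSim (reflection hv) := by
  refine Subtype.ext (CfsgLib.PGOQuot.gl_ext fun x => ?_)
  obtain ⟨w, rfl⟩ : ∃ w : ι → F, (fun i => (σ : F ≃+* F) (w i)) = x :=
    ⟨fun i => (σ : F ≃+* F).symm (x i), funext fun i => RingEquiv.apply_symm_apply _ _⟩
  rw [CfsgLib.Descent.simMap_coe, CfsgLib.Descent.mapGL_coe, ← CfsgLib.Descent.map_mulVec_apply]
  show (fun i => (σ : F ≃+* F) (CfsgLib.OrthSpinor.act Q (reflection hv) w i)) =
    CfsgLib.OrthSpinor.act Q (reflection hv) fun i => (σ : F ≃+* F) (w i)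
  have hQv : (σ : F ≃+* F) (Q v) = Q v := by
    rw [← σ.2 v, show (fun i => (σ : F ≃+* F) (v i)) = v from funext hfix]
  have hpol : polar (⇑Q) v (fun i => (σ : F ≃+* F) (w i)) = (σ : F ≃+* F) (polar (⇑Q) v w) := by
    have hs : v + (fun i => (σ : F ≃+* F) (w i)) = fun i => (σ : F ≃+* F) ((v + w) i) := by
      funext i; simp [hfix i]
    rw [polar, polar, hs, σ.2, σ.2, map_sub, map_sub, hQv]
  rw [CfsgLib.OrthSpinor.act_reflection, CfsgLib.OrthSpinor.act_reflection]
  funext i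
  simp [hpol, hQv, hfix i]

/-- Type plus is inherited by a larger field. -/
theorem isPlus_of_frame {K : Type*} [Field K] (f : K →+* F) (H : GL ι F) (η : F)
    (Q₀ : QuadraticForm K (ι → K))
    (hQ₀ : ∀ c, Q ((H : Matrix ι ι F) *ᵥ liftVec f c) = η * f (Q₀ c))
    (h : CfsgLib.RootCount.IsPlus Q₀) : CfsgLib.RootCount.IsPlus Q := by
  classical
  obtain ⟨U, hU, hUd⟩ := h
  let bU := Module.finBasis K U
  let Bl : (Fin (finrank K U) → K) →ₗ[K] (ι → K) := U.subtype.comp bU.equivFun.symm.toLinearMap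
  have hBl : ∀ c, Bl c ∈ U := fun c => (bU.equivFun.symm c).2
  obtain ⟨Ll, hL⟩ := Bl.exists_leftInverse_of_injective
    (LinearMap.ker_eq_bot.2 (U.injective_subtype.comp bU.equivFun.symm.injective))
  let M := Matrix.mulVecLin ((H : Matrix ι ι F) * (LinearMap.toMatrix' Bl).map f)
  have hinj : Function.Injective M := by
    refine Function.LeftInverse.injective
      (g := Matrix.mulVecLin ((LinearMap.toMatrix' Ll).map f * ((H⁻¹ : GL ι F) : Matrix ι ι F))) fun y => ?_
    simp only [M, Matrix.mulVecLin_apply, Matrix.mulVec_mulVec]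
    rw [Matrix.mul_assoc, ← Matrix.mul_assoc ((H⁻¹ : GL ι F) : Matrix ι ι F), Units.inv_mul,
      Matrix.one_mul, ← Matrix.map_mul, ← LinearMap.toMatrix'_comp, hL, LinearMap.toMatrix'_id,
      Matrix.map_one _ f.map_zero f.map_one, Matrix.one_mulVec]
  have hz : Q.comp M = 0 := CfsgLib.Descent.quad_ext_base f fun c => by
    have hm' : (LinearMap.toMatrix' Bl).map f *ᵥ liftVec f c = liftVec f (LinearMap.toMatrix' Bl *ᵥ c) :=
      funext fun i => (f.map_mulVec (LinearMap.toMatrix' Bl) c i).symm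
    rw [QuadraticMap.comp_apply, Matrix.mulVecLin_apply, ← Matrix.mulVec_mulVec, hm', hQ₀, LinearMap.toMatrix'_mulVec, hU _ (hBl c)]
    simp
  refine ⟨LinearMap.range M, ?_, ?_⟩
  · rintro _ ⟨y, rfl⟩
    exact congrArg (fun q : QuadraticForm F _ => q y) hz
  · rw [LinearMap.finrank_range_of_inj hinj, finrank_fin_fun, finrank_fintype_fun_eq_card]
    rw [finrank_fintype_fun_eq_card] at hUd
    exact hUd

/-- A linear automorphism as a matrix. -/
theorem exists_GL_of_equiv (E : (ι → F) ≃ₗ[F] (ι → F)) :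
    ∃ P : GL ι F, ∀ v, (P : Matrix ι ι F) *ᵥ v = E v := by
  refine ⟨Matrix.GeneralLinearGroup.toLin.symm (LinearMap.GeneralLinearGroup.ofLinearEquiv E), fun v => ?_⟩
  have h1 : ∀ (P : GL ι F) (w : ι → F),
      (Matrix.GeneralLinearGroup.toLin P : (ι → F) →ₗ[F] (ι → F)) w = (P : Matrix ι ι F) *ᵥ w :=
    fun P w => by simp
  rw [← h1, MulEquiv.apply_symm_apply]
  rfl

end General

variable {m : ℕ} {F : Type u} [Field F] [Fintype F] {a b : F}

theorem invariant_minus {σ : F ≃+* F} (ha : σ a = a) (hb : σ b = b) :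
    σ ∈ invAut (minusForm m F a b) := fun v => by
  simp [Cfsg.quadFormMinus, map_sum, ha, hb]

/-- A field automorphism fixing the coefficients. -/
def toInv (m : ℕ) (σ : F ≃+* F) (ha : σ a = a) (hb : σ b = b) : ↥(invAut (minusForm m F a b)) :=
  ⟨σ, invariant_minus ha hb⟩

theorem fieldAut_inj (hm : 3 ≤ m) (hab : Aniso a b) :
    Function.Injective (fieldAut : ↥(invAut (minusForm m F a b)) →* MulAut (POmega F ⇑(minusForm m F a b))) := by
  rw [injective_iff_map_eq_one]
  intro σ hσ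
  exact (CfsgLib.FieldAutPlus.semilinear_eq_one (CfsgLib.Classical.Quad.minusEquiv m F)
    (fun v => CfsgLib.Classical.Quad.minusEquiv_spec m a b v)
    (CfsgLib.Classical.Quad.ndPolar_binForm hab) hm (g := 1) (σ := σ) (by rw [map_one, one_mul, hσ])).1

theorem orderOf_fieldAut (hm : 3 ≤ m) (hab : Aniso a b) (σ : ↥(invAut (minusForm m F a b))) :
    orderOf (fieldAut σ) = orderOf (σ : F ≃+* F) := by
  rw [orderOf_injective _ (fieldAut_inj hm hab), Subgroup.orderOf_coe]

/-- The order is odd: an involution would split the binary part. -/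
theorem odd_of_prime (hab : Aniso a b) {σ : F ≃+* F} (ha : σ a = a) (hb : σ b = b) {r : ℕ} (hr : r.Prime)
    (hσr : orderOf σ = r) : Odd r := by
  rcases hr.eq_two_or_odd' with rfl | h
  swap
  · exact h
  exfalso
  letI : Fintype ↥(fixedField σ) := Fintype.ofFinite _
  have hcard : Fintype.card F = Fintype.card ↥(fixedField σ) ^ 2 := by
    rw [← CfsgLib.AutPSL.card_fixedField_pow σ, hσr, Nat.card_eq_fintype_card]
  let a₀ : ↥(fixedField σ) := ⟨a, (mem_fixedField σ).2 ha⟩
  let b₀ : ↥(fixedField σ) := ⟨b, (mem_fixedField σ).2 hb⟩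
  obtain ⟨θ, hθ, -, -⟩ := CfsgLib.UnitaryEmb.exists_root_quadratic (F := ↥(fixedField σ)) (K := F) hcard rfl
    a₀ b₀ fun t ht => by
      have h1 : (t : F) ^ 2 - a * (t : F) + b = 0 := by simpa [a₀, b₀] using congrArg Subtype.val ht
      exact one_ne_zero (hab (-(t : F)) 1 (by linear_combination h1)).2
  have h2 : θ ^ 2 - a * θ + b = 0 := hθ
  exact one_ne_zero (hab (-θ) 1 (by linear_combination h2)).2

/-- A fixed anisotropic vector. -/
theorem exists_fixed_refl (m : ℕ) (a b : F) :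
    ∃ (v : Idx m → F) (hv : minusForm m F a b v ≠ 0), ∀ σ : F ≃+* F, ∀ i, σ (v i) = v i := by
  refine ⟨Pi.single (Sum.inr 0) 1, by simp [Cfsg.quadFormMinus], fun σ i => ?_⟩
  rw [Pi.single_apply]
  split_ifs <;> simp

/-- The form descended from a minus form is a minus form. -/
theorem exists_descended_equiv (hab : Aniso a b) {K : Type*} [Field K] [Fintype K] (f : K →+* F)
    {a₀ b₀ : K} (ha₀ : f a₀ = a) (hb₀ : f b₀ = b) (H : GL (Idx m) F) (η : F)
    (Q₀ : QuadraticForm K (Idx m → K)) (hnd₀ : NDPolar Q₀)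
    (hQ₀ : ∀ c, minusForm m F a b ((H : Matrix (Idx m) (Idx m) F) *ᵥ liftVec f c) = η * f (Q₀ c)) :
    ∃ P : GL (Idx m) K, ∀ v, Q₀ ((P : Matrix (Idx m) (Idx m) K) *ᵥ v) = minusForm m K a₀ b₀ v := by
  have hab₀ : CfsgLib.RootCount.Aniso a₀ b₀ := fun z₁ z₂ hz => by
    have h0 : f z₁ ^ 2 + a * f z₁ * f z₂ + b * f z₂ ^ 2 = 0 := by
      rw [← ha₀, ← hb₀]; simpa using congrArg f hz
    obtain ⟨h1, h2⟩ := hab _ _ h0
    exact ⟨(map_eq_zero f).1 h1, (map_eq_zero f).1 h2⟩
  rcases CfsgLib.RootCount.classify_even Q₀ hnd₀ (m := m + 1)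
    (by rw [finrank_fintype_fun_eq_card, card_idx]) hab₀ with ⟨hplus, -⟩ | ⟨-, k, hk, E, hE⟩
  · exact absurd (isPlus_of_frame f H η Q₀ hQ₀ hplus) (CfsgLib.RootCount.not_isPlus_minus hab m)
  · obtain rfl : k = m := by omega
    obtain ⟨P, hP⟩ := exists_GL_of_equiv E
    exact ⟨P, fun v => by rw [hP, hE]⟩

/-- The base form. -/
theorem minus_liftVec {K : Type*} [Field K] (f : K →+* F) {a₀ b₀ : K} (ha₀ : f a₀ = a) (hb₀ : f b₀ = b)
    (c : Idx m → K) : minusForm m F a b (liftVec f c) = f (minusForm m K a₀ b₀ c) := by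
  subst ha₀ hb₀
  simp [Cfsg.quadFormMinus, liftVec, map_sum]

/-- **Conjugacy of the elements of order `r` in the coset.** -/
theorem conj_proper (hm : 3 ≤ m) (hab : Aniso a b) (σ : ↥(invAut (minusForm m F a b)))
    (ha : (σ : F ≃+* F) a = a) (hb : (σ : F ≃+* F) b = b) {r : ℕ} (hσr : orderOf (σ : F ≃+* F) = r)
    (g : ↥(simG (minusForm m F a b)))
    (hy : (simAut g * fieldAut σ : MulAut (POmega F ⇑(minusForm m F a b))) ^ r = 1) :
    ∃ h ∈ properSub m a b, (simAut g * fieldAut σ : MulAut (POmega F ⇑(minusForm m F a b))) =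
      simAut h * fieldAut σ * (simAut h)⁻¹ := by
  classical
  obtain ⟨x, H, η, Q₀, hH, hQ₀, hnd₀⟩ := CfsgLib.Descent.coset_frame (fun g h => ker_simAut hm hab g h)
    (CfsgLib.OrthCrit.exists_Q_ne_zero (ndMinus hab)) hσr g hy
  letI : Fintype ↥(fixedField (σ : F ≃+* F)) := Fintype.ofFinite _
  let a₀ : ↥(fixedField (σ : F ≃+* F)) := ⟨a, (mem_fixedField _).2 ha⟩
  let b₀ : ↥(fixedField (σ : F ≃+* F)) := ⟨b, (mem_fixedField _).2 hb⟩
  obtain ⟨P, hP⟩ := exists_descended_equiv (a₀ := a₀) (b₀ := b₀) hab (fixedField (σ : F ≃+* F)).subtype rfl rfl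
    H (η : F) Q₀ (hnd₀ (ndMinus hab)) hQ₀
  obtain ⟨h, hh1, hh2⟩ := CfsgLib.Descent.exists_conj_similarity (minusForm m F a b) hH hQ₀
    ⇑(minusForm m ↥(fixedField (σ : F ≃+* F)) a₀ b₀)
    (fun c => minus_liftVec (fixedField (σ : F ≃+* F)).subtype (a₀ := a₀) (b₀ := b₀) rfl rfl c) P 1
    fun c => by rw [hP, Units.val_one, one_mul]
  have hconj := CfsgLib.Descent.conj_of_fixed σ x g ⟨h, hh1⟩ hh2 CfsgLib.Descent.simAut_scal
  obtain ⟨v, hv, hfix⟩ := exists_fixed_refl m a b
  rcases proper_index hm hab (refl_not_proper hm hab hv) ⟨h, hh1⟩ with hp | hp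
  · exact ⟨_, hp, hconj⟩
  · refine ⟨_, hp, ?_⟩
    have hc : (simAut (isoToSim (reflection hv)) * fieldAut σ : MulAut (POmega F ⇑(minusForm m F a b))) =
        fieldAut σ * simAut (isoToSim (reflection hv)) := by
      rw [CfsgLib.Descent.fieldAut_simAut, simMap_reflection (Q := minusForm m F a b) σ hv (hfix (σ : F ≃+* F))]
    rw [hconj, map_mul, mul_assoc (simAut _) (simAut (isoToSim (reflection hv))), hc]
    group

/-- **The coset criterion.** -/
theorem coset_iff (hm : 3 ≤ m) (hab : Aniso a b) (σ : ↥(invAut (minusForm m F a b)))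
    (ha : (σ : F ≃+* F) a = a) (hb : (σ : F ≃+* F) b = b) {r : ℕ} (hxr : orderOf (fieldAut σ) = r)
    {δ : MulAut (POmega F ⇑(minusForm m F a b))} (hδ : δ ∈ innd m a b) :
    orderOf (δ * fieldAut σ) = r ↔ IsConjUnder (innd m a b) (fieldAut σ) (δ * fieldAut σ) :=
  CfsgLib.Descent.orderOf_coset_iff (properSub m a b) (inndiag_eq_map m a b) (g₀ := 1) (one_mem _) hxr
    (by rw [map_one, one_mul, inv_one, mul_one])
    (fun g _ hy => conj_proper hm hab σ ha hb (by rw [← orderOf_fieldAut hm hab, hxr]) g hy) hδ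

section Reduce

theorem isConjUnder_map {X Y : Type*} [Group X] [Group Y] (e : X ≃* Y) {H : Subgroup X} {x y : X} :
    IsConjUnder (H.map e.toMonoidHom) (e x) (e y) ↔ IsConjUnder H x y := by
  constructor
  · rintro ⟨_, ⟨h, hh, rfl⟩, he⟩
    exact ⟨h, hh, e.injective (by rw [map_mul, map_mul, map_inv]; exact he)⟩
  · rintro ⟨h, hh, rfl⟩
    exact ⟨e h, ⟨h, hh, rfl⟩, by rw [map_mul, map_mul, map_inv]⟩

/-- A field automorphism of prime order, in coordinates fixed by it. -/
theorem exists_coords (hm : 3 ≤ m) (hab : Aniso a b) {x : MulAut (POmega F ⇑(minusForm m F a b))}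
    (hx : IsFieldAutClassPOmegaMinus m (a := a) (b := b) x) {r : ℕ} (hxr : orderOf x = r) :
    ∃ (a' b' : F) (_ : Aniso a' b') (σ : ↥(invAut (minusForm m F a' b')))
      (ψ : POmega F ⇑(minusForm m F a b) ≃* POmega F ⇑(minusForm m F a' b')),
      (σ : F ≃+* F) a' = a' ∧ (σ : F ≃+* F) b' = b' ∧ orderOf (σ : F ≃+* F) = r ∧
      MulAut.congr ψ x = fieldAut σ ∧ (innd m a b).map (MulAut.congr ψ).toMonoidHom = innd m a' b' := by
  obtain ⟨a', b', ψ, σ, hab', -, ha, hb, hstd⟩ := hx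
  let ψ' : POmega F ⇑(minusForm m F a b) ≃* POmega F ⇑(minusForm m F a' b') := ψ
  have he : MulAut.congr ψ' x = fieldAut (toInv m σ ha hb) :=
    (CfsgLib.Descent.fieldAutOf_iff (Q := minusForm m F a' b') (toInv m σ ha hb) _).1 hstd
  refine ⟨a', b', hab', toInv m σ ha hb, ψ', ha, hb, ?_, he, map_innd hm hab hab' ψ'⟩
  rw [← orderOf_fieldAut hm hab', ← he, ← hxr]
  exact orderOf_injective (MulAut.congr ψ').toMonoidHom (MulAut.congr ψ').injective x

/-- Reduction of the coset criterion. -/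
theorem coset_criterion (hm : 3 ≤ m) (hab : Aniso a b) {x δ : MulAut (POmega F ⇑(minusForm m F a b))}
    (hx : IsFieldAutClassPOmegaMinus m (a := a) (b := b) x) {r : ℕ} (hxr : orderOf x = r)
    (hδ : δ ∈ innd m a b) :
    orderOf (δ * x) = r ↔ IsConjUnder (innd m a b) x (δ * x) := by
  obtain ⟨a', b', hab', σ, ψ, ha, hb, hσr, he, hinn⟩ := exists_coords hm hab hx hxr
  have h1 := coset_iff hm hab' σ ha hb (r := r) (by rw [orderOf_fieldAut hm hab', hσr])
    (δ := MulAut.congr ψ δ) (hinn ▸ ⟨δ, hδ, rfl⟩)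
  rw [← he, ← map_mul, ← hinn, isConjUnder_map] at h1
  rwa [show orderOf (MulAut.congr ψ (δ * x)) = orderOf (δ * x) from
    orderOf_injective (MulAut.congr ψ).toMonoidHom (MulAut.congr ψ).injective _] at h1

end Reduce

end CfsgLib.MinusField
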