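import Cfsg.Agent.Lib.MinusField.Proper

/-!
Isomorphisms between the groups `PΩ⁻` of two minus forms carry inner-diagonal automorphisms to
inner-diagonal automorphisms.
-/

set_option autoImplicit false
set_option linter.unusedSectionVars false
set_option linter.style.haveILetI false

universe u

namespace CfsgLib.MinusField

open Matrix Cfsg QuadraticMap Module
open CfsgLib.Classical.Quad (NDPolar commutatorEquiv centralQuotientEquiv)
open CfsgLib.OrthCrit (minusForm)
open CfsgLib.PGOQuot (simG simAut scal conjOmega)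
open CfsgLib.PGOQuot.Minus (Idx Aniso ctx)
open CfsgLib.Descent (mapGL)

section Iso

theorem map_inn {G H : Type*} [Group G] [Group H] (ψ : G ≃* H) :
    (Cfsg.Inn G).map (MulAut.congr ψ).toMonoidHom = Cfsg.Inn H := by
  have h : ∀ g : G, MulAut.congr ψ (MulAut.conj g) = MulAut.conj (ψ g) := fun g => by
    refine MulEquiv.ext fun x => ?_
    simp [MulAut.congr]
  ext β
  constructor
  · rintro ⟨_, ⟨g, rfl⟩, rfl⟩
    exact ⟨ψ g, (h g).symm⟩
  · rintro ⟨y, rfl⟩
    exact ⟨_, ⟨ψ.symm y, rfl⟩, by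
      show MulAut.congr ψ (MulAut.conj (ψ.symm y)) = _
      rw [h, ψ.apply_symm_apply]⟩

theorem congr_trans {G H L : Type*} [Group G] [Group H] [Group L] (ψ : G ≃* H) (φ : H ≃* L) (x : MulAut G) :
    MulAut.congr φ (MulAut.congr ψ x) = MulAut.congr (ψ.trans φ) x :=
  MulEquiv.ext fun _ => rfl

theorem congr_eq_conj {G : Type*} [Group G] (α : MulAut G) (x : MulAut G) :
    MulAut.congr α x = α * x * α⁻¹ := MulEquiv.ext fun _ => rfl

end Iso

section Pair

variable {F : Type*} [Field F] {ι : Type} [Fintype ι] [DecidableEq ι]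
  {Q Q' : QuadraticForm F (ι → F)} {P : GL ι F} {τ : F ≃+* F} {c : Fˣ}

/-- Conjugation by a semilinear bijection. -/
def glConj (P : GL ι F) (τ : F ≃+* F) : GL ι F ≃* GL ι F :=
  (Units.mapEquiv (RingEquiv.mapMatrix τ).toMulEquiv).trans (MulAut.conj P)

theorem glConj_apply (g : GL ι F) : glConj P τ g = P * mapGL τ g * P⁻¹ := rfl

variable (hP : ∀ v, Q' ((P : Matrix ι ι F) *ᵥ fun i => τ (v i)) = (c : F) * τ (Q v))

include hP in
theorem similar_iff (g : GL ι F) (d : Fˣ) :
    (∀ v, Q' (((glConj P τ g : GL ι F) : Matrix ι ι F) *ᵥ v) = τ d * Q' v) ↔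
      ∀ v, Q ((g : Matrix ι ι F) *ᵥ v) = d * Q v := by
  have key : ∀ w, ((glConj P τ g : GL ι F) : Matrix ι ι F) *ᵥ ((P : Matrix ι ι F) *ᵥ fun i => τ (w i)) =
      (P : Matrix ι ι F) *ᵥ fun i => τ (((g : Matrix ι ι F) *ᵥ w) i) := fun w => by
    rw [glConj_apply, Units.val_mul, Units.val_mul, CfsgLib.Descent.map_mulVec_apply, Matrix.mulVec_mulVec,
      Matrix.mul_assoc _ _ (P : Matrix ι ι F), Units.inv_mul, Matrix.mul_one, ← Matrix.mulVec_mulVec,
      CfsgLib.Descent.mapGL_coe]
  constructor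
  · intro h w
    have h1 := h ((P : Matrix ι ι F) *ᵥ fun i => τ (w i))
    rw [key, hP, hP, mul_left_comm, ← map_mul] at h1
    exact τ.injective (mul_left_cancel₀ c.ne_zero h1)
  · intro h v
    obtain ⟨w, rfl⟩ : ∃ w, (P : Matrix ι ι F) *ᵥ (fun i => τ (w i)) = v :=
      ⟨fun i => τ.symm (((((P⁻¹ : GL ι F)) : Matrix ι ι F) *ᵥ v) i), by
        simp [Matrix.mulVec_mulVec]⟩
    rw [key, hP, hP, h, map_mul, mul_left_comm]

include hP in
theorem glConj_mem_sim {g : GL ι F} (hg : g ∈ simG Q) : glConj P τ g ∈ simG Q' := by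
  obtain ⟨d, hd⟩ := hg
  exact ⟨Units.map τ.toMonoidHom d, (similar_iff hP g d).2 hd⟩

include hP in
theorem glConj_mem_sim_iff {g : GL ι F} : glConj P τ g ∈ simG Q' ↔ g ∈ simG Q := by
  refine ⟨?_, glConj_mem_sim hP⟩
  rintro ⟨d, hd⟩
  refine ⟨Units.map τ.symm.toMonoidHom d, (similar_iff hP g _).1 fun v => ?_⟩
  simpa using hd v

include hP in
theorem glConj_mem_iso_iff {g : GL ι F} :
    glConj P τ g ∈ isometryGroup F ⇑Q' ↔ g ∈ isometryGroup F ⇑Q := by
  have h := similar_iff hP g 1
  rw [Units.val_one, map_one] at h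
  simp only [one_mul] at h
  exact ⟨fun hg u _ => h.1 (fun v => hg v v) u, fun hg u _ => h.2 (fun v => hg v v) u⟩

/-- The induced isomorphism of the isometry groups. -/
noncomputable def isoConj : ↥(isometryGroup F ⇑Q) ≃* ↥(isometryGroup F ⇑Q') :=
  ((glConj P τ).subgroupMap (isometryGroup F ⇑Q)).trans (MulEquiv.subgroupCongr (by
    ext g
    constructor
    · rintro ⟨s, hs, rfl⟩
      exact (glConj_mem_iso_iff hP).2 hs
    · exact fun hg => ⟨(glConj P τ).symm g, (glConj_mem_iso_iff hP).1 (by rwa [MulEquiv.apply_symm_apply]),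
        (glConj P τ).apply_symm_apply g⟩))

theorem isoConj_coe (s : ↥(isometryGroup F ⇑Q)) :
    ((isoConj hP s : ↥(isometryGroup F ⇑Q')) : GL ι F) = P * mapGL τ (s : GL ι F) * P⁻¹ := rfl

/-- The induced isomorphism of the projective commutator groups. -/
noncomputable def pomConj : POmega F ⇑Q ≃* POmega F ⇑Q' :=
  centralQuotientEquiv (commutatorEquiv (isoConj hP))

theorem pomConj_mk (s : ↥(Omega F ⇑Q)) :
    pomConj hP (QuotientGroup.mk s) = QuotientGroup.mk (commutatorEquiv (isoConj hP) s) := rfl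

/-- A similarity carried over. -/
def simConj (g : ↥(simG Q)) : ↥(simG Q') := ⟨glConj P τ g, glConj_mem_sim hP g.2⟩

theorem simConj_coe (g : ↥(simG Q)) : (simConj hP g : GL ι F) = P * mapGL τ (g : GL ι F) * P⁻¹ := rfl

theorem congr_simAut (g : ↥(simG Q)) :
    MulAut.congr (pomConj hP) (simAut g) = simAut (simConj hP g) := by
  refine MulEquiv.ext fun x => ?_
  obtain ⟨y, rfl⟩ := (pomConj hP).surjective x
  induction y using QuotientGroup.induction_on with
  | _ s =>
  show pomConj hP (simAut g ((pomConj hP).symm (pomConj hP (QuotientGroup.mk s)))) = _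
  rw [MulEquiv.symm_apply_apply, CfsgLib.PGOQuot.simAut_mk, pomConj_mk, pomConj_mk, CfsgLib.PGOQuot.simAut_mk]
  refine congrArg _ (Subtype.ext (Subtype.ext ?_))
  rw [CfsgLib.PGOQuot.conjOmega_coe]
  show ((isoConj hP (conjOmega g s : ↥(Omega F ⇑Q)).1 : ↥(isometryGroup F ⇑Q')) : GL ι F) =
    (simConj hP g : GL ι F) * ((isoConj hP s.1 : ↥(isometryGroup F ⇑Q')) : GL ι F) * (simConj hP g : GL ι F)⁻¹
  rw [isoConj_coe, isoConj_coe, simConj_coe, CfsgLib.PGOQuot.conjOmega_coe]
  simp only [map_mul, map_inv]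
  group

end Pair

section Minus

variable {m : ℕ} {F : Type u} [Field F] [Fintype F] {a b a' b' : F}

theorem map_innd_pair (hodd : Odd (Fintype.card F)) (hm : 3 ≤ m) (hab : Aniso a b) (hab' : Aniso a' b')
    {P : GL (Idx m) F} {τ : F ≃+* F} {c : Fˣ}
    (hP : ∀ v, minusForm m F a' b' ((P : Matrix (Idx m) (Idx m) F) *ᵥ fun i => τ (v i)) =
      (c : F) * τ (minusForm m F a b v)) :
    (innd m a b).map (MulAut.congr (pomConj hP)).toMonoidHom = innd m a' b' := by
  have hpr : ∀ g, simConj hP g ∈ properSub m a' b' ↔ g ∈ properSub m a b := fun g => by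
    rw [mem_proper_odd hodd hm hab', mem_proper_odd hodd hm hab]
    have hμ : (ctx hodd hm hab').mu (simConj hP g) = Units.map τ.toMonoidHom ((ctx hodd hm hab).mu g) :=
      (ctx hodd hm hab').mu_eq ((similar_iff hP (g : GL (Idx m) F) _).2 ((ctx hodd hm hab).mu_spec g))
    have he : (ctx hodd hm hab').eps (simConj hP g) = Units.map τ.toMonoidHom ((ctx hodd hm hab).eps g) := by
      rw [CfsgLib.PGOQuot.Ctx.eps_apply, CfsgLib.PGOQuot.Ctx.eps_apply, hμ, map_mul, map_inv,
        map_pow]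
      congr 1
      rw [simConj_coe, map_mul, map_mul, map_inv, mul_inv_cancel_comm]
      exact Units.ext (RingHom.map_det τ.toRingHom _).symm
    rw [he]
    exact map_eq_one_iff _ (Units.map_injective (f := τ.toMonoidHom) τ.injective)
  ext β
  constructor
  · rintro ⟨α, hα, rfl⟩
    rw [SetLike.mem_coe, inndiag_eq_map] at hα
    obtain ⟨g, hg, rfl⟩ := hα
    rw [inndiag_eq_map]
    exact ⟨simConj hP g, (hpr g).2 hg, (congr_simAut hP g).symm⟩
  · intro hβ
    rw [inndiag_eq_map] at hβ
    obtain ⟨g', hg', rfl⟩ := hβ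
    let g : ↥(simG (minusForm m F a b)) := ⟨(glConj P τ).symm g', by
      rw [← glConj_mem_sim_iff hP, MulEquiv.apply_symm_apply]; exact g'.2⟩
    have hgg : simConj hP g = g' := Subtype.ext ((glConj P τ).apply_symm_apply _)
    refine ⟨simAut g, ?_, (congr_simAut hP g).trans (by rw [hgg])⟩
    rw [SetLike.mem_coe, inndiag_eq_map]
    exact ⟨g, (hpr g).1 (by rw [hgg]; exact hg'), rfl⟩

/-- The inner-diagonal automorphisms form a normal subgroup, in odd characteristic. -/
theorem innd_normal (hodd : Odd (Fintype.card F)) (hm : 3 ≤ m) (hab : Aniso a b)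
    (α : MulAut (POmega F ⇑(minusForm m F a b))) :
    (innd m a b).map (MulAut.congr α).toMonoidHom = innd m a b := by
  let S : Subgroup (MulAut (POmega F ⇑(minusForm m F a b))) := Subgroup.normalizer (innd m a b)
  have hα : α ∈ S := by
    have h := CfsgLib.AutPOmega.gammaPOmega_minus_eq_top (F := F) (m := m) hab hm
    refine (Subgroup.closure_le S).2 ?_ (h.ge (Subgroup.mem_top α) :)
    rintro β ⟨g, σ, ⟨c, hc⟩, hind⟩
    have hβ : β = pomConj (Q := minusForm m F a b) (Q' := minusForm m F a b) (P := g) (τ := σ) (c := c) hc := by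
      refine MulEquiv.ext fun x => ?_
      induction x using QuotientGroup.induction_on with
      | _ s => exact hind s _ rfl
    have hmap := map_innd_pair hodd hm hab hab (P := g) (τ := σ) (c := c) hc
    rw [← hβ] at hmap
    refine Subgroup.mem_normalizer_iff.2 fun h => ?_
    rw [← congr_eq_conj]
    constructor
    · intro hh
      rw [← hmap]
      exact ⟨h, hh, rfl⟩
    · intro hh
      rw [← hmap] at hh
      obtain ⟨k, hk, hk'⟩ := hh
      rwa [← (MulAut.congr β).injective hk']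
  ext y
  constructor
  · rintro ⟨x, hx, rfl⟩
    show MulAut.congr α x ∈ _
    rw [congr_eq_conj]
    exact (Subgroup.mem_normalizer_iff.1 hα x).1 hx
  · intro hy
    refine ⟨α⁻¹ * y * α, (Subgroup.mem_normalizer_iff.1 hα _).2 ?_, ?_⟩
    · simpa [mul_assoc] using hy
    · show MulAut.congr α _ = y
      rw [congr_eq_conj]; group

/-- **Every isomorphism respects the inner-diagonal automorphisms.** -/
theorem map_innd (hm : 3 ≤ m) (hab : Aniso a b) (hab' : Aniso a' b')
    (ψ : POmega F ⇑(minusForm m F a b) ≃* POmega F ⇑(minusForm m F a' b')) :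
    (innd m a b).map (MulAut.congr ψ).toMonoidHom = innd m a' b' := by
  rcases odd_or_two F with hodd | h2
  swap
  · have h1 : ∀ {x y : F}, Aniso x y → innd m x y = Cfsg.Inn (POmega F ⇑(minusForm m F x y)) :=
      fun h => inndiag_eq_inn_two hm h
    rw [h1 hab, h1 hab']
    exact map_inn ψ
  obtain ⟨e, he⟩ := CfsgLib.RootCount.binary_equiv hab hab'
  let M : Matrix (Idx m) (Idx m) F := Matrix.fromBlocks 1 0 0 (LinearMap.toMatrix' e.toLinearMap)
  have hM : IsUnit M.det := by
    rw [Matrix.det_fromBlocks_zero₂₁, Matrix.det_one, one_mul, LinearMap.det_toMatrix']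
    exact LinearEquiv.isUnit_det' e
  have hP : ∀ v, minusForm m F a' b' (((M.nonsingInvUnit hM : GL (Idx m) F) : Matrix (Idx m) (Idx m) F) *ᵥ
      fun i => (RingEquiv.refl F) (v i)) = ((1 : Fˣ) : F) * (RingEquiv.refl F) (minusForm m F a b v) := fun v => by
    show minusForm m F a' b' (M *ᵥ v) = ((1 : Fˣ) : F) * minusForm m F a b v
    have hl : M *ᵥ v = Sum.elim (v ∘ Sum.inl) (e (v ∘ Sum.inr)) := by
      simp [M, Matrix.fromBlocks_mulVec, LinearMap.toMatrix'_mulVec]
    have h := he (v ∘ Sum.inr)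
    simp only [Function.comp_apply] at h
    simp [Cfsg.quadFormMinus, hl, add_assoc]
    linear_combination h
  set φ := pomConj hP
  have hα := innd_normal hodd hm hab (ψ.trans φ.symm)
  have hφ := map_innd_pair hodd hm hab hab' hP
  have hcomp : (MulAut.congr ψ).toMonoidHom =
      (MulAut.congr φ).toMonoidHom.comp (MulAut.congr (ψ.trans φ.symm)).toMonoidHom := by
    refine MonoidHom.ext fun x => MulEquiv.ext fun y => ?_
    simp [MulAut.congr, φ]
  rw [hcomp, ← Subgroup.map_map]
  exact (congrArg _ hα).trans hφ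

end Minus

end CfsgLib.MinusField
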